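import Cfsg.Agent.Lib.Partition.Semisimple
import Cfsg.Agent.Lib.FrobeniusSystem.Basic
import Cfsg.Agent.Lib.GW.OrderBounds
import Cfsg.Agent.Lib.SmallSimple.AltEightSubgroups
import Cfsg.Agent.Lib.PSLOrderSpectrum.Main
import Cfsg.Agent.S0508

/-!
# The configuration with a dihedral Sylow 2-subgroup

A component of exponent larger than two has a single involution; then the unique minimal normal
subgroup is a two-dimensional linear group, and every involution of it has the properties which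
the component of `t` gives.
-/

set_option autoImplicit false
set_option linter.unusedSectionVars false
set_option linter.style.haveILetI false

open scoped Pointwise IsMulCommutative

set_option maxHeartbeats 400000

namespace Cfsg.Agent.Partition

universe u

/-- An abelian 2-group with a single involution is cyclic. -/
theorem isCyclic_of_unique_involution {A : Type*} [CommGroup A] [Finite A] (hA : IsPGroup 2 A) (t : A)
    (h : ∀ a : A, a * a = 1 → a = 1 ∨ a = t) : IsCyclic A := by
  classical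
  haveI : Fact (Nat.Prime 2) := ⟨Nat.prime_two⟩
  haveI := Fintype.ofFinite A
  have key : ∀ k : ℕ, (Finset.univ.filter fun a : A => a ^ 2 ^ k = 1).card ≤ 2 ^ k := by
    intro k
    induction k with
    | zero => exact Finset.card_le_one.2 (by simp)
    | succ k ih =>
      calc (Finset.univ.filter fun a : A => a ^ 2 ^ (k + 1) = 1).card
          ≤ 2 * (Finset.univ.filter fun a : A => a ^ 2 ^ k = 1).card := by
            refine Finset.card_le_mul_card_image_of_maps_to (f := fun a => a * a) ?_ 2 fun b _ => ?_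
            · intro a ha
              simp only [Finset.mem_filter, Finset.mem_univ, true_and] at ha ⊢
              rw [← pow_two, ← pow_mul, mul_comm, ← pow_succ]
              exact ha
            · rcases Finset.eq_empty_or_nonempty
                ((Finset.univ.filter fun a : A => a ^ 2 ^ (k + 1) = 1).filter fun a => a * a = b) with e | ⟨a, ha⟩
              · rw [e]; simp
              refine le_trans (Finset.card_le_card (t := {a, a * t}) fun c hc => ?_) Finset.card_le_two
              have ha2 : a * a = b := (Finset.mem_filter.1 ha).2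
              have hc2 : c * c = b := (Finset.mem_filter.1 hc).2
              rcases h (c / a) (by rw [div_mul_div_comm, hc2, ha2, div_self']) with e | e
              · simp [div_eq_one.1 e]
              · rw [div_eq_iff_eq_mul, mul_comm] at e
                simp [e]
        _ ≤ 2 * 2 ^ k := by omega
        _ = 2 ^ (k + 1) := by rw [pow_succ, mul_comm]
  refine isCyclic_of_card_pow_eq_one_le fun n hn => ?_
  obtain ⟨m, hm⟩ := IsPGroup.iff_card.1 hA
  obtain ⟨j, -, hj⟩ := (Nat.dvd_prime_pow Nat.prime_two).1 (Nat.gcd_dvd_right n (2 ^ m))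
  calc (Finset.univ.filter fun a : A => a ^ n = 1).card
      ≤ (Finset.univ.filter fun a : A => a ^ 2 ^ j = 1).card := by
        refine Finset.card_le_card fun a ha => ?_
        simp only [Finset.mem_filter, Finset.mem_univ, true_and] at ha ⊢
        rw [← hj]
        exact pow_gcd_eq_one.2 ⟨ha, by rw [← hm]; exact pow_card_eq_one'⟩
    _ ≤ 2 ^ j := key j
    _ ≤ n := hj ▸ Nat.le_of_dvd hn (Nat.gcd_dvd_left n _)

variable {G : Type u} [Group G] [Finite G]

/-- An involution has a conjugate in a given Sylow 2-subgroup. -/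
theorem exists_conj_mem_sylow {s : G} (hs : orderOf s = 2) (P : Sylow 2 G) :
    ∃ c : G, c * s * c⁻¹ ∈ (P : Subgroup G) := by
  haveI : Fact (Nat.Prime 2) := ⟨Nat.prime_two⟩
  have hz : IsPGroup 2 (Subgroup.zpowers s) :=
    IsPGroup.of_card (n := 1) (by rw [Nat.card_zpowers, hs, pow_one])
  obtain ⟨R, hR⟩ := hz.exists_le_sylow
  obtain ⟨c, hc⟩ := MulAction.exists_smul_eq G R P
  refine ⟨c, ?_⟩
  rw [← hc, Sylow.coe_subgroup_smul]
  exact Subgroup.smul_mem_pointwise_smul s (MulAut.conj c) _ (hR (Subgroup.mem_zpowers s))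

/-- The intersection of a Sylow 2-subgroup with a normal subgroup bounds the Sylow 2-subgroups of
the latter. -/
theorem card_sylow_normal_le (N : Subgroup G) [N.Normal] (S : Sylow 2 N) (P : Sylow 2 G) :
    Nat.card S ≤ Nat.card (N ⊓ P : Subgroup G) := by
  haveI : Fact (Nat.Prime 2) := ⟨Nat.prime_two⟩
  obtain ⟨R, hR⟩ := (S.2.map N.subtype).exists_le_sylow
  obtain ⟨c, hc⟩ := MulAction.exists_smul_eq G R P
  refine Nat.card_le_card_of_injective (fun x => ⟨c * ((x : N) : G) * c⁻¹,
    Subgroup.Normal.conj_mem inferInstance _ (x : N).2 c, ?_⟩) fun x y hxy => ?_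
  · rw [← hc]
    show _ ∈ ((c • R : Sylow 2 G) : Subgroup G)
    rw [Sylow.coe_subgroup_smul]
    exact Subgroup.smul_mem_pointwise_smul _ (MulAut.conj c) _
      (hR (Subgroup.mem_map_of_mem _ x.2))
  · exact Subtype.ext (Subtype.ext (mul_left_cancel (mul_right_cancel (congrArg Subtype.val hxy))))

/-- The properties which an involution of the linear group gets from its component. -/
def Rigid (τ : G) : Prop :=
  (∀ c d : G, Commute c τ → Commute d τ → c * c ≠ 1 → d * c * d⁻¹ = c ∨ d * c * d⁻¹ = c⁻¹) ∧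
    ∀ c d : G, Commute c τ → Commute d τ → c * c ≠ 1 → d * d = 1 → Commute c d → d = 1 ∨ d = τ

theorem Rigid.conj {τ : G} (h : Rigid τ) (g : G) : Rigid (g * τ * g⁻¹) := by
  have hb : ∀ {c : G}, Commute c (g * τ * g⁻¹) → Commute (g⁻¹ * c * g) τ := fun hc => by
    have := hc.map (MulAut.conj g⁻¹).toMonoidHom
    simpa [mul_assoc] using this
  have hsq : ∀ {c : G}, c * c ≠ 1 → g⁻¹ * c * g * (g⁻¹ * c * g) ≠ 1 := fun {c} hc e => hc (by
    calc c * c = g * (g⁻¹ * c * g * (g⁻¹ * c * g)) * g⁻¹ := by group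
      _ = 1 := by rw [e]; group)
  constructor
  · intro c d hc hd hc2
    rcases h.1 _ _ (hb hc) (hb hd) (hsq hc2) with e | e
    · left
      calc d * c * d⁻¹ = g * (g⁻¹ * d * g * (g⁻¹ * c * g) * (g⁻¹ * d * g)⁻¹) * g⁻¹ := by group
        _ = c := by rw [e]; group
    · right
      calc d * c * d⁻¹ = g * (g⁻¹ * d * g * (g⁻¹ * c * g) * (g⁻¹ * d * g)⁻¹) * g⁻¹ := by group
        _ = c⁻¹ := by rw [e]; group
  · intro c d hc hd hc2 hd2 hcd
    rcases h.2 _ _ (hb hc) (hb hd) (hsq hc2)
      (by rw [show g⁻¹ * d * g * (g⁻¹ * d * g) = g⁻¹ * (d * d) * g by group, hd2]; group)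
      (by simpa [mul_assoc] using hcd.map (MulAut.conj g⁻¹).toMonoidHom) with e | e
    · left
      calc d = g * (g⁻¹ * d * g) * g⁻¹ := by group
        _ = 1 := by rw [e]; group
    · right
      calc d = g * (g⁻¹ * d * g) * g⁻¹ := by group
        _ = g * τ * g⁻¹ := by rw [e]

namespace Part

variable (T : Part G)

/-- In the configuration with a single involution in the component, `t` lies in every nontrivial
normal subgroup. -/
theorem mem_normal (hA : ∀ A : Subgroup G, A.Normal → (∀ a ∈ A, ∀ b ∈ A, Commute a b) → A = ⊥)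
    {t y g₀ : G} {P : Sylow 2 G} (h : T.Bad t y) (hg₀ : g₀ ∈ T.comp t) (hg₀2 : g₀ * g₀ ≠ 1)
    (hP : ∀ s ∈ (P : Subgroup G), Commute s t)
    (huniq : ∀ w ∈ T.comp t, orderOf w = 2 → w = t)
    {N : Subgroup G} (hN : N.Normal) (hne : N ≠ ⊥) : t ∈ N := by
  classical
  haveI := hN
  haveI : Fact (Nat.Prime 2) := ⟨Nat.prime_two⟩
  obtain ⟨i, hiN, hi⟩ := Involutions.StronglyEmbedded.exists_involution_mem (even_card_normal hA hN hne)
  obtain ⟨c, hc⟩ := exists_conj_mem_sylow hi P
  haveI : Group.IsNilpotent (P : Subgroup G) := P.2.isNilpotent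
  haveI : (N.subgroupOf (P : Subgroup G)).Normal := Subgroup.normal_subgroupOf
  obtain ⟨z', hz', hz'1⟩ := (Subgroup.bot_or_exists_ne_one _).resolve_left
    (Cfsg.Agent.Cores.inf_center_ne_bot (N := N.subgroupOf (P : Subgroup G)) fun e => by
      have h1 : (⟨_, hc⟩ : (P : Subgroup G)) ∈ N.subgroupOf (P : Subgroup G) := hN.conj_mem i hiN c
      rw [e, Subgroup.mem_bot] at h1
      exact Involutions.Basic.ne_one hi (conj_eq_one_iff.1 (congrArg Subtype.val h1)))
  obtain ⟨k, hk⟩ := IsPGroup.iff_orderOf.1 P.2 z'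
  have hd : 2 ∣ orderOf z' := by
    rcases k with _ | k
    · exact absurd (orderOf_eq_one_iff.1 (by simpa using hk)) hz'1
    · exact hk ▸ dvd_pow_self 2 k.succ_ne_zero
  set z : G := ((z' ^ (orderOf z' / 2) : (P : Subgroup G)) : G) with hzdef
  have hzo : orderOf z = 2 := by
    rw [hzdef, Subgroup.orderOf_coe, orderOf_pow_orderOf_div (orderOf_pos z').ne' hd]
  have hzN : z ∈ N := Subgroup.mem_subgroupOf.1 (pow_mem hz'.1 (orderOf z' / 2))
  have hzP : z ∈ (P : Subgroup G) := (z' ^ (orderOf z' / 2)).2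
  have hzc : ∀ s ∈ (P : Subgroup G), Commute s z := fun s hs =>
    congrArg Subtype.val (Subgroup.mem_center_iff.1 (pow_mem hz'.2 (orderOf z' / 2)) ⟨s, hs⟩)
  by_cases hzX : z ∈ T.comp t
  · exact huniq z hzX hzo ▸ hzN
  -- the Sylow subgroup is a four-group, and `N` would be solvable
  by_contra htN
  have hzt : Commute z t := hP z hzP
  have hzb : T.Bad t z := ⟨h.ht, hzt, hzX⟩
  have hsmall : ∀ x ∈ (P : Subgroup G), x ∈ T.comp t → x = 1 ∨ x = t := by
    intro x hxP hx
    have h1 := hzb.y_inverts hx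
    rw [← (hzc x hxP).eq, mul_inv_cancel_right] at h1
    by_cases hx1 : x = 1
    · exact Or.inl hx1
    · exact Or.inr (huniq x hx (Involutions.Basic.orderOf_two_iff.2 ⟨mul_eq_one_iff_eq_inv.2 h1, hx1⟩))
  have hNP : ∀ x ∈ (N ⊓ P : Subgroup G), x = 1 ∨ x = z := by
    rintro x ⟨hxN, hxP⟩
    by_cases hxX : x ∈ T.comp t
    · rcases hsmall x hxP hxX with e | e
      · exact Or.inl e
      · exact absurd (e ▸ hxN) htN
    · rcases hsmall (x * z) (mul_mem hxP hzP) (hzb.mul_mem_comp hg₀ hg₀2 (hP x hxP) hxX) with e | e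
      · exact Or.inr (by rw [eq_inv_of_mul_eq_one_left e, Involutions.Basic.inv_eq hzo])
      · exact absurd (e ▸ mul_mem hxN hzN) htN
  obtain ⟨S⟩ : Nonempty (Sylow 2 N) := inferInstance
  have hle : Nat.card S ≤ 2 := by
    refine (card_sylow_normal_le N S P).trans ?_
    rw [show Nat.card (N ⊓ P : Subgroup G) = ((N ⊓ P : Subgroup G) : Set G).ncard from Nat.card_coe_set_eq _]
    refine le_trans (Set.ncard_le_ncard (t := {1, z}) (fun x hx => ?_) (Set.toFinite _)) ?_
    · simpa using hNP x hx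
    · exact le_of_le_of_eq (Set.ncard_insert_le _ _) (by rw [Set.ncard_singleton])
  refine hne (normal_eq_bot hA hN (FrobeniusSystem.isSolvable_of_sylow_two_central S fun g hg => ?_))
  refine Subgroup.mem_centralizer_iff.2 fun a ha => ?_
  have h2 := (Subgroup.mem_normalizer_iff.1 hg a).1 ha
  by_cases ha1 : a = 1
  · simp [ha1]
  have hga : g * a * g⁻¹ = a := by
    by_contra hne'
    have hsub : ({1, a, g * a * g⁻¹} : Set N) ⊆ ((S : Subgroup N) : Set N) := by
      rintro x (rfl | rfl | rfl)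
      exacts [one_mem _, ha, h2]
    have h3 := Set.ncard_le_ncard hsub (Set.toFinite _)
    rw [Set.ncard_insert_of_notMem (by
        simp only [Set.mem_insert_iff, Set.mem_singleton_iff, not_or]
        exact ⟨Ne.symm ha1, fun e => ha1 (conj_eq_one_iff.1 e.symm)⟩) (Set.toFinite _),
      Set.ncard_pair (Ne.symm hne'),
      show ((S : Subgroup N) : Set N).ncard = Nat.card S from (Nat.card_coe_set_eq _).symm] at h3
    omega
  exact (mul_inv_eq_iff_eq_mul.1 hga).symm

/-- The configuration with a dihedral Sylow subgroup gives a linear group with rigid involutions. -/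
theorem exists_linear (hF : ∀ H : Subgroup G, ¬ Cfsg.IsFrobeniusComplement H)
    (hA : ∀ A : Subgroup G, A.Normal → (∀ a ∈ A, ∀ b ∈ A, Commute a b) → A = ⊥)
    {t y g₀ : G} {P : Sylow 2 G} (h : T.Bad t y) (hg₀ : g₀ ∈ T.comp t) (hg₀2 : g₀ * g₀ ≠ 1)
    (htP : t ∈ (P : Subgroup G)) (hP : ∀ s ∈ (P : Subgroup G), Commute s t)
    (huniq : ∀ w ∈ T.comp t, orderOf w = 2 → w = t) :
    ∃ N : Subgroup G, N.Normal ∧ Subgroup.centralizer (N : Set G) = ⊥ ∧
      (∃ (F : Type) (_ : Field F) (_ : Fintype F), 5 ≤ Fintype.card F ∧ Odd (Fintype.card F) ∧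
        Nonempty (N ≃* Matrix.ProjectiveSpecialLinearGroup (Fin 2) F)) ∧
      ∀ τ ∈ N, orderOf τ = 2 → Rigid τ := by
  classical
  haveI : Fact (Nat.Prime 2) := ⟨Nat.prime_two⟩
  set X := T.comp t with hX
  have ht1 := h.t_ne_one
  obtain ⟨N, hNn, hmin, htN⟩ : ∃ N : Subgroup G, N.Normal ∧
      (∀ {M : Subgroup G}, M.Normal → M ≠ ⊥ → N ≤ M) ∧ t ∈ N :=
    ⟨⨅ M : {M : Subgroup G // M.Normal ∧ M ≠ ⊥}, (M : Subgroup G),
      Subgroup.normal_iInf_normal fun M => M.2.1,
      fun hM hM1 => iInf_le (fun M : {M : Subgroup G // M.Normal ∧ M ≠ ⊥} => (M : Subgroup G)) ⟨_, hM, hM1⟩,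
      Subgroup.mem_iInf.2 fun M => T.mem_normal hA h hg₀ hg₀2 hP huniq M.2.1 M.2.2⟩
  haveI := hNn
  have hNne : N ≠ ⊥ := fun e => ht1 (Subgroup.mem_bot.1 (e ▸ htN))
  have hNab : ¬ IsMulCommutative N := fun hc => hNne (hA N hNn fun a ha b hb =>
    congrArg Subtype.val (hc.is_comm.comm ⟨a, ha⟩ ⟨b, hb⟩))
  have hCN : Subgroup.centralizer (N : Set G) = ⊥ := by
    by_contra hne
    have hle := hmin (Subgroup.normal_centralizer (H := N)) hne
    exact hNne (hA N hNn fun a ha b hb => Subgroup.mem_centralizer_iff.1 (hle hb) a ha)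
  -- no abelian normal subgroup of `N`
  have hAN : ∀ A : Subgroup N, A.Normal → (∀ a ∈ A, ∀ b ∈ A, Commute a b) → A = ⊥ := by
    intro A hAn hAc
    by_contra hA1
    haveI : Nontrivial A := (Subgroup.nontrivial_iff_ne_bot A).2 hA1
    obtain ⟨q, hq, hqd⟩ := Nat.exists_prime_and_dvd (Finite.one_lt_card (α := A)).ne'
    haveI := Fact.mk hq
    haveI := hAn
    obtain ⟨a₀, ha₀⟩ := exists_prime_orderOf_dvd_card' q hqd
    let B : Subgroup N :=
      { carrier := {x | x ∈ A ∧ x ^ q = 1}
        mul_mem' := fun {x z} hx hz => ⟨mul_mem hx.1 hz.1,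
          by rw [(hAc x hx.1 z hz.1).mul_pow, hx.2, hz.2, one_mul]⟩
        one_mem' := ⟨one_mem _, one_pow q⟩
        inv_mem' := fun {x} hx => ⟨inv_mem hx.1, by rw [inv_pow, hx.2, inv_one]⟩ }
    haveI : B.Normal := ⟨fun x hx g => ⟨hAn.conj_mem x hx.1 g,
      by rw [conj_pow, hx.2, mul_one, mul_inv_cancel]⟩⟩
    have hBp : IsPGroup q B := fun b => ⟨1, Subtype.ext (by simpa using b.2.2)⟩
    obtain ⟨Q⟩ : Nonempty (Sylow q N) := inferInstance
    set M := Subgroup.normalClosure ((B.map N.subtype : Subgroup G) : Set G) with hM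
    have hMQ : M ≤ (Q : Subgroup N).map N.subtype := by
      rw [hM, Subgroup.normalClosure, Subgroup.closure_le]
      intro m hm
      obtain ⟨_, ⟨b, hb, rfl⟩, hbm⟩ := Group.mem_conjugatesOfSet_iff.1 hm
      obtain ⟨g, rfl⟩ := isConj_iff.1 hbm
      let φ : MulAut N := MulAut.conjNormal g
      haveI : (B.map φ.toMonoidHom).Normal := Subgroup.Normal.map inferInstance _ φ.surjective
      refine ⟨φ b, normal_le_sylow (hBp.map φ.toMonoidHom) Q (Subgroup.mem_map_of_mem _ hb), ?_⟩
      exact MulAut.conjNormal_apply g b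
    have hMp : IsPGroup q M := (Q.2.map N.subtype).to_le hMQ
    haveI : Group.IsNilpotent M := hMp.isNilpotent
    have hMbot := normal_eq_bot hA (N := M) Subgroup.normalClosure_normal inferInstance
    have hmem : ((a₀ : N) : G) ∈ M := Subgroup.subset_normalClosure
      ⟨a₀, ⟨a₀.2, by rw [← ha₀, ← Subgroup.orderOf_coe, pow_orderOf_eq_one]⟩, rfl⟩
    rw [hMbot, Subgroup.mem_bot] at hmem
    rw [show a₀ = 1 from Subtype.ext (Subtype.ext hmem), orderOf_one] at ha₀
    exact hq.one_lt.ne ha₀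
  haveI hNs : IsSimpleGroup N := by
    haveI : Nontrivial N := (Subgroup.nontrivial_iff_ne_bot N).2 hNne
    refine { eq_bot_or_eq_top_of_normal := fun L hL => or_iff_not_imp_left.2 fun hLne => ?_ }
    haveI : Fintype (Subgroup N) := Fintype.ofFinite _
    obtain ⟨L₀, hL₀, hL₀min⟩ := (Finset.univ.filter fun K : Subgroup N => K.Normal ∧ K ≠ ⊥ ∧ K ≤ L).exists_minimal
      ⟨L, Finset.mem_filter.2 ⟨Finset.mem_univ _, hL, hLne, le_rfl⟩⟩
    obtain ⟨-, hL₀n, hL₀1, hL₀L⟩ := Finset.mem_filter.1 hL₀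
    haveI := hL₀n
    obtain ⟨s, hsL, hs⟩ := Involutions.StronglyEmbedded.exists_involution_mem (even_card_normal hAN hL₀n hL₀1)
    have hnorm : (L₀.map N.subtype).Normal := by
      refine ⟨?_⟩
      rintro _ ⟨a, ha, rfl⟩ g
      let φ : MulAut N := MulAut.conjNormal g
      haveI : (L₀.map φ.toMonoidHom).Normal := Subgroup.Normal.map inferInstance _ φ.surjective
      have hcard : Nat.card (L₀.map φ.toMonoidHom) = Nat.card L₀ :=
        Subgroup.card_map_of_injective φ.injective
      suffices heq : L₀.map φ.toMonoidHom = L₀ from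
        ⟨φ a, heq ▸ Subgroup.mem_map_of_mem _ ha, MulAut.conjNormal_apply g a⟩
      by_contra hne'
      have hdis : L₀ ⊓ L₀.map φ.toMonoidHom = ⊥ := by
        by_contra hd
        have h1 := hL₀min (Finset.mem_filter.2 ⟨Finset.mem_univ _, inferInstance, hd, inf_le_left.trans hL₀L⟩)
          inf_le_left
        exact hne' (Subgroup.eq_of_le_of_card_ge (h1.trans inf_le_right) hcard.le).symm
      have hsol : Group.IsSolvable (L₀.map φ.toMonoidHom) := by
        haveI := T.isSolvable_centralizer hF (t := (s : G)) (by rw [Subgroup.orderOf_coe, hs])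
        refine Group.isSolvable_of_isSolvable_injective
          (f := (N.subtype.comp (L₀.map φ.toMonoidHom).subtype).codRestrict
            (Subgroup.centralizer ({(s : G)} : Set G)) fun x => ?_)
          (fun a b hab => Subtype.ext (Subtype.ext
            (congrArg (fun z : Subgroup.centralizer ({(s : G)} : Set G) => (z : G)) hab)))
        exact Subgroup.mem_centralizer_singleton_iff.2 (congrArg Subtype.val
          (Subgroup.commute_of_normal_of_disjoint _ _ inferInstance inferInstance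
            (disjoint_iff.2 hdis) s x hsL x.2).eq.symm)
      have h2 := normal_eq_bot hAN inferInstance hsol
      rw [← Subgroup.card_eq_one, hcard, Subgroup.card_eq_one] at h2
      exact hL₀1 h2
    have h3 := hmin hnorm (by
      rwa [Ne, Subgroup.map_eq_bot_iff_of_injective _ N.subtype_injective])
    refine eq_top_iff.2 fun x _ => hL₀L ?_
    obtain ⟨a, ha, hax⟩ := h3 x.2
    exact Subtype.ext hax ▸ ha
  -- an involution of `N` outside the component
  obtain ⟨s, hsN, hst, hsX⟩ : ∃ s ∈ N, Commute s t ∧ s ∉ X := by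
    by_contra hall
    push Not at hall
    refine not_isolated hAN (z := (⟨t, htN⟩ : N)) ⟨?_, fun g hg => ?_⟩
    · rw [← Subgroup.orderOf_coe]; exact h.ht
    · exact Subtype.ext (huniq _ (hall _ ((g : N) * ⟨t, htN⟩ * g⁻¹).2 (congrArg Subtype.val hg.symm.eq))
        (by simp only [Subgroup.coe_mul, Subgroup.coe_inv, Involutions.Basic.orderOf_conj, h.ht]))
  set C := Subgroup.centralizer ({t} : Set G)
  have hPC : (P : Subgroup G) ≤ C := fun x hx => Subgroup.mem_centralizer_singleton_iff.2 (hP x hx)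
  have hs2 := T.outside_two h.ht hst hsX
  obtain ⟨c, hc⟩ := exists_conj_mem_sylow (G := C)
    (s := (⟨s, Subgroup.mem_centralizer_singleton_iff.2 hst⟩ : C)) (by rw [← Subgroup.orderOf_coe]; exact hs2)
    (P.subtype hPC)
  obtain ⟨y', hy'⟩ : ∃ y', y' = (c : G) * s * (c : G)⁻¹ := ⟨_, rfl⟩
  have hy'P : y' ∈ (P : Subgroup G) := hy' ▸ hc
  have hy'N : y' ∈ N := hy' ▸ hNn.conj_mem s hsN c
  have hct : Commute (c : G) t := Subgroup.mem_centralizer_singleton_iff.1 c.2
  have hb : T.Bad t y' := ⟨h.ht, hP y' hy'P, fun e => hsX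
    ((T.conj_mem_nor (T.mem_nor_of_commute ht1 hct)).1 (hy' ▸ e))⟩
  have hy'2 := hb.y_two
  -- the cyclic part
  set D := X ⊓ (N ⊓ (P : Subgroup G)) with hD
  haveI : IsMulCommutative D := ⟨⟨fun a b => Subtype.ext (hb.comm a.2.1 b.2.1).eq⟩⟩
  have hDp : IsPGroup 2 D := P.2.to_le (inf_le_right.trans inf_le_right)
  haveI : IsCyclic D := isCyclic_of_unique_involution hDp ⟨t, T.mem t, htN, htP⟩ fun a ha =>
    (em (a = 1)).imp id fun ha1 => Subtype.ext (huniq a a.2.1 (Involutions.Basic.orderOf_two_iff.2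
      ⟨congrArg Subtype.val ha, fun e => ha1 (Subtype.ext e)⟩))
  obtain ⟨c₀, hc₀⟩ := IsCyclic.exists_generator (α := D)
  obtain ⟨d, hd⟩ : ∃ d : G, d = (c₀ : G) := ⟨_, rfl⟩
  have hdX : d ∈ X := hd ▸ c₀.2.1
  obtain ⟨y'', hy''⟩ : ∃ y'', y'' = y' * d := ⟨_, rfl⟩
  have hy''2 : orderOf y'' = 2 := by rw [hy'', T.orderOf_mul_eq ht1 hb.y_nor hb.hy hdX, hy'2]
  have hprod : y' * y'' = d := by
    rw [hy'', ← mul_assoc, Involutions.Basic.inv_sq_one hy'2, one_mul]
  have hd1 : d ≠ 1 := by
    intro e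
    obtain ⟨k, hk⟩ := Subgroup.mem_zpowers_iff.1 (hc₀ ⟨t, T.mem t, htN, htP⟩)
    refine ht1 ?_
    have hk' := congrArg Subtype.val hk
    simp only [Subgroup.coe_zpow] at hk'
    rw [← hk', ← hd, e, one_zpow]
  have hne' : y' ≠ y'' := fun e => hd1 (mul_eq_left.1 (e.trans hy'').symm)
  have hclosure : Subgroup.closure ({y', y''} : Set G) = N ⊓ (P : Subgroup G) := by
    refine le_antisymm ((Subgroup.closure_le _).2 ?_) ?_
    · rintro x (rfl | rfl)
      · exact ⟨hy'N, hy'P⟩
      · rw [hy'', hd]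
        exact mul_mem (show y' ∈ N ⊓ (P : Subgroup G) from ⟨hy'N, hy'P⟩) c₀.2.2
    · intro x hx
      have hy'C : y' ∈ Subgroup.closure ({y', y''} : Set G) := Subgroup.subset_closure (Or.inl rfl)
      have hy''C : y'' ∈ Subgroup.closure ({y', y''} : Set G) := Subgroup.subset_closure (Or.inr rfl)
      have hz : ∀ {z : G}, z ∈ D → z ∈ Subgroup.closure ({y', y''} : Set G) := by
        intro z hz
        obtain ⟨k, hk⟩ := Subgroup.mem_zpowers_iff.1 (hc₀ ⟨z, hz⟩)
        have hk' := congrArg Subtype.val hk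
        simp only [Subgroup.coe_zpow] at hk'
        rw [← hk', ← hd, ← hprod]
        exact Subgroup.zpow_mem _ (Subgroup.mul_mem _ hy'C hy''C) k
      by_cases hxX : x ∈ X
      · exact hz ⟨hxX, hx⟩
      · have h1 := hz (z := x * y') ⟨hb.mul_mem_comp hg₀ hg₀2 (hP x hx.2) hxX,
          mul_mem hx (show y' ∈ N ⊓ (P : Subgroup G) from ⟨hy'N, hy'P⟩)⟩
        have h2 := mul_mem h1 (inv_mem hy'C)
        rwa [mul_inv_cancel_right] at h2
  -- a Sylow subgroup of `N`
  obtain ⟨S, hS⟩ := IsPGroup.exists_le_sylow (P := (N ⊓ (P : Subgroup G)).subgroupOf N)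
    (IsPGroup.comap_of_injective (P.2.to_le inf_le_right) N.subtype N.subtype_injective)
  have hSeq : (S : Subgroup N).map N.subtype = N ⊓ (P : Subgroup G) := by
    refine (Subgroup.eq_of_le_of_card_ge (show N ⊓ (P : Subgroup G) ≤ (S : Subgroup N).map N.subtype from
      fun x hx => ⟨⟨x, hx.1⟩, hS hx, rfl⟩) ?_).symm
    rw [Subgroup.card_map_of_injective N.subtype_injective]
    exact card_sylow_normal_le N S P
  have e : (S : Subgroup N) ≃* DihedralGroup (orderOf (y' * y'')) :=
    ((Subgroup.equivMapOfInjective _ _ N.subtype_injective).trans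
      (MulEquiv.subgroupCongr (hSeq.trans (hclosure.symm.trans
        (Involutions.Basic.dihedralHom_range y' y'' hy'2 hy''2).symm)))).trans
      (MonoidHom.ofInjective (Involutions.Basic.dihedralHom_injective y' y'' hy'2 hy''2 hne')).symm
  have hn2 : 2 ≤ orderOf (y' * y'') := by
    rw [hprod]
    have h1 := orderOf_pos d
    have h2 : orderOf d ≠ 1 := fun e' => hd1 (orderOf_eq_one_iff.1 e')
    omega
  set t' : N := ⟨t, htN⟩ with ht'
  have hmemS : ∀ {x : N}, x ∈ (S : Subgroup N) → (x : G) ∈ N ⊓ (P : Subgroup G) := fun hx => by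
    rw [← hSeq]; exact Subgroup.mem_map_of_mem _ hx
  have htS : t' ∈ (S : Subgroup N) := hS ⟨htN, htP⟩
  set O := (Cfsg.oddCore (Subgroup.centralizer ({t'} : Set N))).map
    (Subgroup.centralizer ({t'} : Set N)).subtype with hO
  have hOX : ∀ o ∈ O, (o : G) ∈ X := by
    rintro _ ⟨o, ho, rfl⟩
    by_contra hoX
    have h1 := T.outside_two h.ht
      (congrArg Subtype.val (Subgroup.mem_centralizer_singleton_iff.1 o.2) : Commute ((o : N) : G) t) hoX
    rw [Subgroup.orderOf_coe, Subgroup.orderOf_coe] at h1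
    have h2 := Odd.of_dvd_nat Agent.InvChar.Core.odd_card_oddCore
      (orderOf_dvd_natCard (⟨o, ho⟩ : Cfsg.oddCore (Subgroup.centralizer ({t'} : Set N))))
    rw [Subgroup.orderOf_mk, h1] at h2
    exact absurd h2 (by decide)
  have hinO : ∀ x : N, (x : G) ∈ X → x ∈ Subgroup.centralizer (O : Set N) := fun x hx =>
    Subgroup.mem_centralizer_iff.2 fun o ho => Subtype.ext (hb.comm (hOX o ho) hx).eq
  have hOinv : ∀ x ∈ (S : Subgroup N), (x : G) ∉ X → ∀ o ∈ O, x * o * x⁻¹ = o⁻¹ := by
    intro x hx hxX o ho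
    refine Subtype.ext ?_
    simp only [Subgroup.coe_mul, Subgroup.coe_inv]
    exact (show T.Bad t (x : G) from ⟨h.ht, hP _ (hmemS hx).2, hxX⟩).y_inverts (hOX o ho)
  refine (fun hres => ?mainGoal) (Cfsg.Agent.S0508.result (G := N) S _ hn2 ⟨e⟩ t'
    (by rw [← Subgroup.orderOf_coe]; exact h.ht) htS
    (fun x hx => Subtype.ext (hP _ (hmemS hx).2).eq) O rfl ?coreA ?coreB ?coreC)
  case mainGoal =>
    obtain ⟨F, iF, iF', hodd, ⟨f⟩⟩ := hres
    refine ⟨N, hNn, hCN, ⟨F, iF, iF', ?_, hodd, ⟨f⟩⟩, fun τ hτN hτ => ?_⟩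
    · have h3 : Fintype.card F ≠ 3 := by
        intro h3
        have hc := PSLOrderSpectrum.card_psl_two (F := F)
        rw [h3, ← Nat.card_congr f.toEquiv] at hc
        norm_num at hc
        refine hNne (normal_eq_bot hA hNn (SmallSimple.AltEightSubgroups.solvable_of_dvd_24 ?_))
        exact ⟨2, by omega⟩
      have h1 : 1 < Fintype.card F := Fintype.one_lt_card
      obtain ⟨m, hm⟩ := hodd
      omega
    · -- all involutions of `N` are conjugate to `t`
      have hcard : 2 < Nat.card N := by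
        have h1 : Nat.card (S : Subgroup N) ≤ Nat.card N := Subgroup.card_le_card_group _
        rw [Nat.card_congr e.toEquiv, DihedralGroup.nat_card] at h1
        omega
      obtain ⟨g, hg⟩ := isConj_iff.1 (GW.OrderBounds.one_class hcard S hn2 e t' ⟨τ, hτN⟩
        (by rw [← Subgroup.orderOf_coe]; exact h.ht) (by rw [← Subgroup.orderOf_coe]; exact hτ))
      have hg' : (g : G) * t * (g : G)⁻¹ = τ := congrArg Subtype.val hg
      rw [← hg']
      refine Rigid.conj ⟨?_, ?_⟩ _
      · intro a b ha hb' ha2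
        have haX : a ∈ X := by
          by_contra e'
          exact ha2 (Involutions.Basic.inv_sq_one (T.outside_two h.ht ha e'))
        by_cases hbX : b ∈ X
        · exact Or.inl (by rw [(hb.comm hbX haX).eq, mul_inv_cancel_right])
        · exact Or.inr ((show T.Bad t b from ⟨h.ht, hb', hbX⟩).y_inverts haX)
      · intro a b ha hb' ha2 hb2 hab
        have haX : a ∈ X := by
          by_contra e'
          exact ha2 (Involutions.Basic.inv_sq_one (T.outside_two h.ht ha e'))
        by_cases hb1 : b = 1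
        · exact Or.inl hb1
        refine Or.inr (huniq b ?_ (Involutions.Basic.orderOf_two_iff.2 ⟨hb2, hb1⟩))
        by_contra hbX
        have h1 := (show T.Bad t b from ⟨h.ht, hb', hbX⟩).y_inverts haX
        rw [← hab.eq, mul_inv_cancel_right] at h1
        exact ha2 (mul_eq_one_iff_eq_inv.2 h1)
  case coreA =>
    intro hOne
    obtain ⟨o, ho, ho1⟩ := (Subgroup.bot_or_exists_ne_one O).resolve_left hOne
    have hoo : (o : G) * o ≠ 1 := by
      intro e'
      obtain ⟨o', ho', rfl⟩ := ho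
      have h2 := Odd.of_dvd_nat Agent.InvChar.Core.odd_card_oddCore
        (orderOf_dvd_natCard (⟨o', ho'⟩ : Cfsg.oddCore (Subgroup.centralizer ({t'} : Set N))))
      rw [Subgroup.orderOf_mk] at h2
      have h3 : orderOf o' ∣ 2 := orderOf_dvd_of_pow_eq_one (by
        rw [pow_two]; exact Subtype.ext (Subtype.ext e'))
      refine ho1 ?_
      rw [show o' = 1 from orderOf_eq_one_iff.1
        (Nat.eq_one_of_dvd_coprimes (Nat.coprime_two_right.2 h2) dvd_rfl h3)]
      simp
    have hC : ∀ x : N, x ∈ (S : Subgroup N) ⊓ Subgroup.centralizer (O : Set N) ↔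
        x ∈ (S : Subgroup N) ∧ (x : G) ∈ X := by
      refine fun x => ⟨fun hx => ⟨hx.1, by_contra fun hxX => hoo ?_⟩, fun hx => ⟨hx.1, hinO x hx.2⟩⟩
      have h1 := hOinv x hx.1 hxX o ho
      rw [← Subgroup.mem_centralizer_iff.1 hx.2 o ho, mul_inv_cancel_right] at h1
      have h2 := congrArg (fun z : N => (z : G)) h1
      simp only [Subgroup.coe_inv] at h2
      exact mul_eq_one_iff_eq_inv.2 h2
    constructor
    · exact isCyclic_of_injective
        ((N.subtype.comp ((S : Subgroup N) ⊓ Subgroup.centralizer (O : Set N)).subtype).codRestrict D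
          fun x => ⟨((hC x).1 x.2).2, hmemS x.2.1⟩)
        (fun a b hab => Subtype.ext (Subtype.ext (congrArg (fun z : D => (z : G)) hab)))
    · rw [Subgroup.relIndex, Subgroup.index_eq_two_iff]
      refine ⟨⟨⟨y', hy'N⟩, hS ⟨hy'N, hy'P⟩⟩, fun b => ?_⟩
      simp only [Subgroup.mem_subgroupOf, hC, Subgroup.coe_mul]
      have hbS := (hmemS b.2).2
      by_cases hbX : ((b : N) : G) ∈ X
      · exact Or.inr ⟨⟨b.2, hbX⟩, fun e' => hb.hy (by simpa using mul_mem (inv_mem hbX) e'.2)⟩
      · exact Or.inl ⟨⟨mul_mem b.2 (hS ⟨hy'N, hy'P⟩), hb.mul_mem_comp hg₀ hg₀2 (hP _ hbS) hbX⟩,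
          fun e' => hbX e'.2⟩
  case coreB =>
    intro x hx hxC
    exact hOinv x hx fun hxX => hxC (hinO x hxX)
  case coreC =>
    intro Y hY hY1 g hg
    obtain ⟨a, ha, ha1⟩ := (Subgroup.bot_or_exists_ne_one Y).resolve_left hY1
    have ha1' : (a : G) ≠ 1 := fun e' => ha1 (Subtype.ext e')
    have h1 : ((g * a * g⁻¹ : N) : G) ∈ X := hOX _ (hY ((Subgroup.mem_normalizer_iff.1 hg a).1 ha))
    have haX := hOX a (hY ha)
    have hgn : (g : G) ∈ T.nor t := by
      rw [← T.nor_eq_of_mem ht1 ha1' haX, T.mem_nor_iff ha1', T.eq_of_mem ht1 ha1' haX]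
      simpa using h1
    rw [Subgroup.mem_centralizer_singleton_iff]
    refine Subtype.ext (show (g : G) * t = t * g from mul_inv_eq_iff_eq_mul.1 ?_)
    exact huniq _ ((T.mem_nor_iff ht1).1 hgn) (by rw [Involutions.Basic.orderOf_conj, h.ht])

end Part

end Cfsg.Agent.Partition
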