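import Cfsg.Agent.Lib.AutPSL.Diag
import Mathlib.NumberTheory.LegendreSymbol.QuadraticChar.Basic

/-!
# Automorphisms of two-dimensional linear groups with rigid involutions

A group of automorphisms of `PSL₂(q)`, `q` odd, which contains the inner ones and has rigid
involutions has no field automorphisms.
-/

set_option autoImplicit false
set_option linter.unusedSectionVars false
set_option linter.style.haveILetI false

open Matrix Cfsg.Agent.AutPSL.Basic Cfsg.Agent.AutPSL.Frame Cfsg.Agent.AutPSL.Main
  Cfsg.Agent.AutPSL.Out Cfsg.Agent.AutPSL.Diag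

namespace Cfsg.Agent.Partition.Outer

variable {F : Type} [Field F] [Fintype F]

local notation "SL" => Matrix.SpecialLinearGroup (Fin 2) F
local notation "PSL" => Matrix.ProjectiveSpecialLinearGroup (Fin 2) F
local notation "M" => Matrix (Fin 2) (Fin 2) F

/-- The rigidity of an inner involution, in a group of automorphisms. -/
def RigidAt (B : Subgroup (MulAut PSL)) (x : PSL) : Prop :=
  (∀ c ∈ B, ∀ d ∈ B, Commute c (MulAut.conj x) → Commute d (MulAut.conj x) → c * c ≠ 1 →
      d * c * d⁻¹ = c ∨ d * c * d⁻¹ = c⁻¹) ∧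
    ∀ c ∈ B, ∀ d ∈ B, Commute c (MulAut.conj x) → Commute d (MulAut.conj x) → c * c ≠ 1 →
      d * d = 1 → Commute c d → d = 1 ∨ d = MulAut.conj x

theorem mul_conj_mul_inv (β : MulAut PSL) (y : PSL) :
    β * MulAut.conj y * β⁻¹ = MulAut.conj (β y) :=
  MulEquiv.ext fun z => by simp [MulAut.mul_apply]

theorem commute_conj {β : MulAut PSL} {x : PSL} (h : β x = x) : Commute β (MulAut.conj x) := by
  have h1 := mul_conj_mul_inv β x
  rw [h, mul_inv_eq_iff_eq_mul] at h1
  exact h1

/-- How `gAut g * fAut σ` moves an element. -/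
theorem apply_mk_eq {g : GL (Fin 2) F} {σ : F ≃+* F} {s t : SL} (c : F)
    (h : (g : M) * (s : M).map σ = c • ((t : M) * (g : M))) :
    (gAut g * fAut σ : MulAut PSL) (QuotientGroup.mk s) = QuotientGroup.mk t := by
  have hc : c * c = 1 := by
    have h1 := congrArg Matrix.det h
    have h2 : ((s : M).map σ).det = 1 := (fieldSL σ s).prop
    rw [det_smul, det_mul, det_mul, h2, t.prop, one_mul, mul_one, Fintype.card_fin, pow_two] at h1
    exact mul_right_cancel₀ (Matrix.GeneralLinearGroup.det g).ne_zero (b := (g : M).det)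
      (by simpa using h1.symm)
  show (QuotientGroup.mk (conjSL g (fieldSL σ s)) : PSL) = _
  rw [mk_eq_mk_iff]
  refine ⟨c, ?_⟩
  rw [conjSL_coe, fieldSL_coe, h, smul_mul_assoc, mul_assoc, Units.mul_inv, mul_one, smul_smul, hc,
    one_smul]

theorem exists_coeff {g : GL (Fin 2) F} {σ : F ≃+* F} {s t : SL}
    (h : (gAut g * fAut σ : MulAut PSL) (QuotientGroup.mk s) = QuotientGroup.mk t) :
    ∃ c : F, c * c = 1 ∧ (t : M) * (g : M) = c • ((g : M) * (s : M).map σ) := by
  have h' : (QuotientGroup.mk (conjSL g (fieldSL σ s)) : PSL) = QuotientGroup.mk t := h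
  rw [mk_eq_mk_iff] at h'
  obtain ⟨c, hc⟩ := h'
  refine ⟨c, ?_, ?_⟩
  · have h1 := congrArg Matrix.det hc
    rw [det_smul, t.prop, (conjSL g (fieldSL σ s)).prop, Fintype.card_fin, mul_one, pow_two] at h1
    exact h1.symm
  · rw [hc, conjSL_coe, fieldSL_coe, smul_mul_assoc, mul_assoc ((g : M) * _), Units.inv_mul, mul_one]

/-- `diag(a, 1)`. -/
def dg (a : F) (ha : a ≠ 0) : GL (Fin 2) F :=
  Matrix.GeneralLinearGroup.mkOfDetNeZero !![a, 0; 0, 1] (by simp [Matrix.det_fin_two, ha])

theorem dg_coe (a : F) (ha : a ≠ 0) : ((dg a ha : GL (Fin 2) F) : M) = !![a, 0; 0, 1] := rfl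

theorem fieldGL_dg (σ : F ≃+* F) (a : F) (ha : a ≠ 0) :
    fieldGL σ (dg a ha) = dg (σ a) (by simpa using ha) := by
  refine Units.ext ?_
  rw [fieldGL_coe, dg_coe, dg_coe]
  ext i j
  fin_cases i <;> fin_cases j <;> simp

/-- `diag(s, s⁻¹)`. -/
def torus (s : F) (hs : s ≠ 0) : SL := ⟨!![s, 0; 0, s⁻¹], by simp [Matrix.det_fin_two, hs]⟩

/-- An element of the circle. -/
def rot (x y : F) (h : x * x + y * y = 1) : SL := ⟨!![x, y; -y, x], by
  simp [Matrix.det_fin_two]; linear_combination h⟩

/-- The standard element of order four. -/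
def wel : SL := rot 0 1 (by ring)

theorem wel_coe : ((wel : SL) : M) = !![0, 1; -1, 0] := by
  show !![(0 : F), 1; -1, 0] = _
  rfl

theorem map2 (σ : F ≃+* F) (p q r s : F) : (!![p, q; r, s] : M).map σ = !![σ p, σ q; σ r, σ s] := by
  ext i j
  fin_cases i <;> fin_cases j <;> rfl

theorem rot_coe (x y : F) (h : x * x + y * y = 1) : ((rot x y h : SL) : M) = !![x, y; -y, x] := rfl

theorem torus_coe (s : F) (hs : s ≠ 0) : ((torus s hs : SL) : M) = !![s, 0; 0, s⁻¹] := rfl

theorem rot_inv (x y : F) (h : x * x + y * y = 1) :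
    (rot x y h : SL)⁻¹ = rot x (-y) (by linear_combination h) := by
  refine inv_eq_of_mul_eq_one_right (Subtype.ext ?_)
  show !![x, y; -y, x] * !![x, -y; -(-y), x] = (1 : M)
  ext i j
  fin_cases i <;> fin_cases j <;> simp <;> first | ring1 | linear_combination h | linear_combination -h

theorem torus_inv (s : F) (hs : s ≠ 0) : (torus s hs : SL)⁻¹ = torus s⁻¹ (inv_ne_zero hs) := by
  refine inv_eq_of_mul_eq_one_right (Subtype.ext ?_)
  show !![s, 0; 0, s⁻¹] * !![s⁻¹, 0; 0, s⁻¹⁻¹] = (1 : M)
  ext i j
  fin_cases i <;> fin_cases j <;> simp [hs]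

theorem eq_one_iff_scalar {s : SL} : (QuotientGroup.mk s : PSL) = 1 →
    (s : M) 0 1 = 0 ∧ (s : M) 1 0 = 0 ∧ (s : M) 0 0 = (s : M) 1 1 := by
  intro h
  obtain ⟨c, hc⟩ := (mk_eq_one_iff s).1 h
  rw [hc]
  simp

theorem two_ne_zero_of_odd (hodd : Odd (Fintype.card F)) : (2 : F) ≠ 0 ∧ ringChar F ≠ 2 := by
  have h : ringChar F ≠ 2 := fun e => by
    have := FiniteField.even_card_of_char_two e
    obtain ⟨m, hm⟩ := hodd
    omega
  exact ⟨Ring.two_ne_zero h, h⟩

theorem orderOf_mk_wel : orderOf (QuotientGroup.mk (wel : SL) : PSL) = 2 := by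
  haveI : Fact (Nat.Prime 2) := ⟨Nat.prime_two⟩
  refine orderOf_eq_prime ?_ fun h => ?_
  · rw [← QuotientGroup.mk_pow, mk_eq_one_iff]
    refine ⟨-1, ?_⟩
    rw [pow_two, Matrix.SpecialLinearGroup.coe_mul, wel_coe]
    ext i j
    fin_cases i <;> fin_cases j <;> simp
  · have := (eq_one_iff_scalar h).1
    rw [wel_coe] at this
    simp at this

theorem orderOf_mk_torus {i : F} (hi : i * i = -1) (hi0 : i ≠ 0) (h2 : (2 : F) ≠ 0) :
    orderOf (QuotientGroup.mk (torus i hi0) : PSL) = 2 := by
  haveI : Fact (Nat.Prime 2) := ⟨Nat.prime_two⟩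
  have hinv : i⁻¹ = -i := inv_eq_of_mul_eq_one_right (by rw [mul_neg, hi, neg_neg])
  refine orderOf_eq_prime ?_ fun h => ?_
  · rw [← QuotientGroup.mk_pow, mk_eq_one_iff]
    refine ⟨-1, ?_⟩
    rw [pow_two, Matrix.SpecialLinearGroup.coe_mul]
    show !![i, 0; 0, i⁻¹] * !![i, 0; 0, i⁻¹] = _
    rw [hinv]
    ext a b
    fin_cases a <;> fin_cases b <;> simp [hi]
  · have h3 : i = i⁻¹ := (eq_one_iff_scalar h).2.2
    rw [hinv] at h3
    exact mul_ne_zero h2 hi0 (by linear_combination h3)

theorem pm_of_mul_self {c : F} (h : c * c = 1) : c = 1 ∨ c = -1 := mul_self_eq_one_iff.1 h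

/-- The quadratic equations of the counting have at most two roots. -/
theorem card_quad_le [DecidableEq F] (b c : F) :
    (Finset.univ.filter fun x : F => x * x + b * x + c = 0).card ≤ 2 := by
  rcases Finset.eq_empty_or_nonempty (Finset.univ.filter fun x : F => x * x + b * x + c = 0) with e | ⟨a, ha⟩
  · rw [e]; simp
  refine le_trans (Finset.card_le_card (t := {a, -b - a}) fun x hx => ?_) Finset.card_le_two
  simp only [Finset.mem_filter, Finset.mem_univ, true_and] at ha hx
  have h : (x - a) * (x + a + b) = 0 := by linear_combination hx - ha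
  rcases mul_eq_zero.1 h with h | h
  · simp [sub_eq_zero.1 h]
  · have : x = -b - a := by linear_combination h
    simp [this]

/-- Ring homomorphisms which agree on squares are equal. -/
theorem eq_of_eq_on_sq (h2 : (2 : F) ≠ 0) (f g : F →+* F) (h : ∀ s : F, f (s * s) = g (s * s)) :
    f = g := by
  refine RingHom.ext fun x => ?_
  have e := h (x + 1)
  have e2 := h x
  simp only [add_mul, mul_add, map_add, mul_one, one_mul, map_one] at e
  exact mul_left_cancel₀ h2 (by linear_combination e - e2)

section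

/-- No field automorphism when `-1` is not a square. -/
theorem no_field_three {B : Subgroup (MulAut PSL)} {σ : F ≃+* F} {a : F} {ha : a ≠ 0} (h3 : Fintype.card F % 4 = 3) (hinn : ∀ y : PSL, MulAut.conj y ∈ B)
    (hinj : Function.Injective (MulAut.conj : PSL → MulAut PSL)) (hR : ∀ x : PSL, orderOf x = 2 → RigidAt B x)
    (he : (gAut (dg a ha) * fAut σ : MulAut PSL) ∈ B) (haa : a * a = 1) : σ = 1 := by
  classical
  by_contra hσ
  have hodd : Odd (Fintype.card F) := Nat.odd_iff.2 (by omega)
  obtain ⟨h2, hchar⟩ := two_ne_zero_of_odd hodd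
  have hns : ¬ IsSquare (-1 : F) := fun hs => FiniteField.isSquare_neg_one_iff.1 hs h3
  set e : MulAut PSL := gAut (dg a ha) * fAut σ
  have hew : Commute e (MulAut.conj (QuotientGroup.mk (wel : SL) : PSL)) := by
    refine commute_conj (apply_mk_eq a ?_)
    rw [dg_coe, wel_coe]
    ext i j
    fin_cases i <;> fin_cases j <;> simp [haa, map2]
  have key : ∀ x y : F, x * x + y * y = 1 → σ x = x ∨ σ x = -x := by
    intro x y hxy
    by_cases hx : x = 0
    · exact Or.inl (by rw [hx, map_zero])
    by_cases hy : y = 0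
    · rw [hy, mul_zero, add_zero] at hxy
      rcases pm_of_mul_self hxy with rfl | rfl <;> simp
    set R : PSL := QuotientGroup.mk (rot x y hxy) with hRdef
    have hRw : Commute (MulAut.conj R) (MulAut.conj (QuotientGroup.mk (wel : SL) : PSL)) := by
      refine Commute.map (show Commute R (QuotientGroup.mk (wel : SL)) from ?_) MulAut.conj
      show QuotientGroup.mk _ * QuotientGroup.mk _ = QuotientGroup.mk _ * QuotientGroup.mk _
      rw [← QuotientGroup.mk_mul, ← QuotientGroup.mk_mul]
      refine congrArg _ (Subtype.ext ?_)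
      show !![x, y; -y, x] * ((wel : SL) : M) = ((wel : SL) : M) * !![x, y; -y, x]
      rw [wel_coe]
      ext i j
      fin_cases i <;> fin_cases j <;> simp
    have hR2 : MulAut.conj R * MulAut.conj R ≠ 1 := by
      rw [← map_mul]
      intro e'
      have h1 := hinj (e'.trans (map_one MulAut.conj).symm)
      rw [hRdef, ← QuotientGroup.mk_mul] at h1
      have h4 : (!![x, y; -y, x] * !![x, y; -y, x] : M) 0 1 = 0 := (eq_one_iff_scalar h1).1
      simp at h4
      exact mul_ne_zero h2 (mul_ne_zero hx hy) (by linear_combination h4)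
    have hcases := (hR _ orderOf_mk_wel).1 _ (hinn R) e he hRw hew hR2
    rw [mul_conj_mul_inv, ← map_inv] at hcases
    rcases hcases with h | h
    · obtain ⟨c, hc, hm⟩ := exists_coeff (hinj h)
      have h4 := congrFun (congrFun hm 1) 1
      simp [dg_coe, rot_coe, map2] at h4
      rcases pm_of_mul_self hc with rfl | rfl
      · exact Or.inl (by linear_combination -h4)
      · exact Or.inr (by linear_combination h4)
    · rw [hRdef, ← QuotientGroup.mk_inv, rot_inv] at h
      obtain ⟨c, hc, hm⟩ := exists_coeff (hinj h)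
      have h4 := congrFun (congrFun hm 1) 1
      simp [dg_coe, rot_coe, map2] at h4
      rcases pm_of_mul_self hc with rfl | rfl
      · exact Or.inl (by linear_combination -h4)
      · exact Or.inr (by linear_combination h4)
  -- the parametrised circle
  have hden : ∀ s : F, 1 + s * s ≠ 0 := fun s e' => hns ⟨s, by linear_combination -e'⟩
  let X : F → F := fun s => (1 - s * s) / (1 + s * s)
  have hX : ∀ s, σ (X s) = X s ∨ σ (X s) = -X s := fun s =>
    key (X s) (2 * s / (1 + s * s)) (by
      simp only [X]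
      rw [div_mul_div_comm, div_mul_div_comm, ← add_div,
        div_eq_one_iff_eq (mul_ne_zero (hden s) (hden s))]
      ring)
  set K : Subfield F := RingHom.eqLocusField σ.toRingHom (RingHom.id F) with hK
  have hKmem : ∀ x : F, x ∈ K ↔ σ x = x := fun x => Iff.rfl
  set Fp := Finset.univ.filter fun x : F => σ x = x
  set Fm := Finset.univ.filter fun x : F => σ x = -x
  have hFp : Fp.card = Nat.card K := by
    rw [Nat.card_eq_fintype_card]
    exact (Fintype.card_of_subtype Fp fun x => by simp [Fp, hKmem]).symm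
  have hFm : Fm.card ≤ Fp.card := by
    by_cases hz : ∀ x ∈ Fm, x = 0
    · refine le_trans (Finset.card_le_one.2 fun x hx y hy => (hz x hx).trans (hz y hy).symm) ?_
      exact Finset.card_pos.2 ⟨0, by simp [Fp]⟩
    push Not at hz
    obtain ⟨x₀, hx₀, hx₀0⟩ := hz
    refine Finset.card_le_card_of_injOn (fun x => x / x₀) (fun x hx => ?_) fun x _ z _ hxz =>
      (div_left_inj' hx₀0).1 hxz
    simp only [Fm, Finset.mem_coe, Finset.mem_filter, Finset.mem_univ, true_and] at hx hx₀
    simp [Fp, map_div₀, hx, hx₀]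
  have hq : Fintype.card F ≤ 2 * (2 * Fp.card) := by
    refine (Finset.card_le_mul_card_image_of_maps_to (f := X) (t := Fp ∪ Fm) (s := Finset.univ)
      (fun s _ => ?_) 2 fun x _ => ?_).trans (Nat.mul_le_mul_left 2 ?_)
    · rcases hX s with h | h
      · exact Finset.mem_union_left _ (Finset.mem_filter.2 ⟨Finset.mem_univ _, h⟩)
      · exact Finset.mem_union_right _ (Finset.mem_filter.2 ⟨Finset.mem_univ _, h⟩)
    · rcases Finset.eq_empty_or_nonempty (Finset.univ.filter fun s : F => X s = x) with e' | ⟨s₀, hs₀⟩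
      · rw [e']; simp
      refine le_trans (Finset.card_le_card (t := {s₀, -s₀}) fun s hs => ?_) Finset.card_le_two
      have h5 : X s = X s₀ := (Finset.mem_filter.1 hs).2.trans (Finset.mem_filter.1 hs₀).2.symm
      simp only [X] at h5
      rw [div_eq_div_iff (hden s) (hden s₀)] at h5
      have h6 : s * s = s₀ * s₀ := mul_left_cancel₀ h2 (by linear_combination -h5)
      rcases mul_self_eq_mul_self_iff.1 h6 with h7 | h7 <;> simp [h7]
    · exact (Finset.card_union_le _ _).trans (by omega)
  have hpow : Fintype.card F = Nat.card K ^ Module.finrank K F := by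
    rw [← Nat.card_eq_fintype_card]
    exact Module.natCard_eq_pow_finrank
  have hm0 : 0 < Module.finrank K F := Module.finrank_pos
  have hKne : Nat.card K ≠ Fintype.card F := fun e' => hσ (RingEquiv.ext fun x => by
    have h5 : Fp = Finset.univ := Finset.eq_univ_of_card _ (hFp.trans e')
    have h6 : x ∈ Fp := h5 ▸ Finset.mem_univ x
    simpa [Fp] using h6)
  have hKodd : Odd (Nat.card K) := Odd.of_dvd_nat hodd (hpow ▸ dvd_pow_self _ hm0.ne')
  have hK2 : 2 ≤ Nat.card K := Finite.one_lt_card
  obtain ⟨k, hk⟩ := hKodd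
  rcases Nat.lt_or_ge (Module.finrank K F) 3 with hlt | hge
  · interval_cases hf : Module.finrank K F
    · exact hKne (by rw [hpow, pow_one])
    · rw [hk] at hpow
      rw [hpow] at h3
      ring_nf at h3
      omega
  · have h7 : Nat.card K ^ 3 ≤ Fintype.card F := hpow ▸ Nat.pow_le_pow_right (by omega) hge
    rw [← hFp] at hk hK2 h7
    have h9 : 3 ^ 2 ≤ Fp.card ^ 2 := Nat.pow_le_pow_left (by omega) 2
    nlinarith

/-- No field automorphism when `-1` is a square. -/
theorem no_field_one {B : Subgroup (MulAut PSL)} {σ : F ≃+* F} {a : F} {ha : a ≠ 0} (h1 : Fintype.card F % 4 = 1) (hinn : ∀ y : PSL, MulAut.conj y ∈ B)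
    (hinj : Function.Injective (MulAut.conj : PSL → MulAut PSL)) (hR : ∀ x : PSL, orderOf x = 2 → RigidAt B x)
    (he : (gAut (dg a ha) * fAut σ : MulAut PSL) ∈ B) (hacase : a = 1 ∨ ¬ IsSquare a) : σ = 1 := by
  classical
  by_contra hσ
  have hodd : Odd (Fintype.card F) := Nat.odd_iff.2 (by omega)
  obtain ⟨h2, hchar⟩ := two_ne_zero_of_odd hodd
  obtain ⟨i, hi⟩ : IsSquare (-1 : F) := FiniteField.isSquare_neg_one_iff.2 (by omega)
  have hi : i * i = -1 := hi.symm
  have hi0 : i ≠ 0 := fun e => by rw [e, mul_zero] at hi; exact one_ne_zero (neg_eq_zero.1 hi.symm)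
  have hinv : i⁻¹ = -i := inv_eq_of_mul_eq_one_right (by rw [mul_neg, hi, neg_neg])
  have hone : (1 : F) ≠ -1 := fun e => h2 (by linear_combination e)
  set τ : PSL := QuotientGroup.mk (torus i hi0)
  have hτ : orderOf τ = 2 := orderOf_mk_torus hi hi0 h2
  set e : MulAut PSL := gAut (dg a ha) * fAut σ with hedef
  obtain ⟨κ, hκ, hκi⟩ : ∃ κ : F, κ * κ = 1 ∧ σ i = κ * i := by
    have h4 : σ i * σ i = i * i := by rw [← map_mul, hi, map_neg, map_one]
    rcases mul_self_eq_mul_self_iff.1 h4 with h | h
    · exact ⟨1, one_mul 1, by rw [h, one_mul]⟩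
    · exact ⟨-1, by ring, by rw [h, neg_one_mul]⟩
  have hκinv : κ⁻¹ = κ := inv_eq_of_mul_eq_one_right hκ
  have heτ : Commute e (MulAut.conj τ) := by
    refine commute_conj (apply_mk_eq κ ?_)
    show _ * (!![i, 0; 0, i⁻¹] : M).map σ = κ • (!![i, 0; 0, i⁻¹] * _)
    rw [dg_coe]
    ext r c
    fin_cases r <;> fin_cases c <;> simp [map2, map_inv₀, hκi, mul_inv, hκinv, hinv] <;> ring
  have htorus : ∀ (s : F) (hs : s ≠ 0),
      Commute (MulAut.conj (QuotientGroup.mk (torus s hs) : PSL)) (MulAut.conj τ) := by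
    intro s hs
    refine Commute.map (show Commute _ τ from ?_) MulAut.conj
    show QuotientGroup.mk _ * QuotientGroup.mk _ = QuotientGroup.mk _ * QuotientGroup.mk _
    rw [← QuotientGroup.mk_mul, ← QuotientGroup.mk_mul]
    refine congrArg _ (Subtype.ext ?_)
    show !![s, 0; 0, s⁻¹] * !![i, 0; 0, i⁻¹] = !![i, 0; 0, i⁻¹] * !![s, 0; 0, s⁻¹]
    ext r c
    fin_cases r <;> fin_cases c <;> simp <;> ring
  have hsq : ∀ (s : F) (hs : s ≠ 0), s * s * (s * s) ≠ 1 →
      MulAut.conj (QuotientGroup.mk (torus s hs) : PSL) * MulAut.conj (QuotientGroup.mk (torus s hs) : PSL)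
        ≠ 1 := by
    intro s hs hs4 e'
    rw [← map_mul] at e'
    have h3 := hinj (e'.trans (map_one MulAut.conj).symm)
    rw [← QuotientGroup.mk_mul] at h3
    have h4 : (!![s, 0; 0, s⁻¹] * !![s, 0; 0, s⁻¹] : M) 0 0 = (!![s, 0; 0, s⁻¹] * !![s, 0; 0, s⁻¹] : M) 1 1 :=
      (eq_one_iff_scalar h3).2.2
    simp at h4
    exact hs4 (by
      field_simp at h4
      linear_combination h4)
  -- squares are fixed or inverted
  have key : ∀ s : F, s ≠ 0 → σ (s * s) = s * s ∨ σ (s * s) = (s * s)⁻¹ := by
    intro s hs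
    by_cases hs4 : s * s * (s * s) = 1
    · left
      rcases pm_of_mul_self hs4 with h | h <;> simp [h]
    have hcases := (hR τ hτ).1 _ (hinn _) e he (htorus s hs) heτ (hsq s hs hs4)
    rw [mul_conj_mul_inv, ← map_inv] at hcases
    rcases hcases with h | h
    · obtain ⟨c, hc, hm⟩ := exists_coeff (hinj h)
      have h4 := congrFun (congrFun hm 0) 0
      simp [dg_coe, torus_coe, map2] at h4
      left
      rw [map_mul]
      have h5 : s = c * σ s := mul_right_cancel₀ ha (by linear_combination h4)
      calc σ s * σ s = (c * c) * (σ s * σ s) := by rw [hc, one_mul]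
        _ = (c * σ s) * (c * σ s) := by ring
        _ = s * s := by rw [← h5]
    · rw [← QuotientGroup.mk_inv, torus_inv] at h
      obtain ⟨c, hc, hm⟩ := exists_coeff (hinj h)
      have h4 := congrFun (congrFun hm 0) 0
      simp [dg_coe, torus_coe, map2] at h4
      right
      rw [map_mul]
      have h5 : s⁻¹ = c * σ s := mul_right_cancel₀ ha (by linear_combination h4)
      calc σ s * σ s = (c * c) * (σ s * σ s) := by rw [hc, one_mul]
        _ = (c * σ s) * (c * σ s) := by ring
        _ = (s * s)⁻¹ := by rw [← h5, mul_inv]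
  -- they are all inverted
  have hinvall : ∀ s : F, s ≠ 0 → σ (s * s) = (s * s)⁻¹ := by
    intro s hs
    by_contra hns
    have hsfix := (key s hs).resolve_right hns
    refine hσ (RingEquiv.ext fun x => DFunLike.congr_fun
      (eq_of_eq_on_sq h2 σ.toRingHom (RingHom.id F) fun t => ?_) x)
    show σ (t * t) = t * t
    by_cases ht : t = 0
    · simp [ht]
    by_contra htf
    have htinv := (key t ht).resolve_left htf
    rcases key (s * t) (mul_ne_zero hs ht) with h | h
    · refine htf ?_
      rw [show s * t * (s * t) = (s * s) * (t * t) by ring, map_mul, hsfix, htinv] at h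
      rw [htinv]
      exact mul_left_cancel₀ (mul_ne_zero hs hs) h
    · refine hns ?_
      rw [show s * t * (s * t) = (s * s) * (t * t) by ring, map_mul, hsfix, htinv] at h
      rw [hsfix]
      exact mul_right_cancel₀ (inv_ne_zero (mul_ne_zero ht ht)) (h.trans (mul_inv _ _))
  have hpm : ∀ s : F, s ≠ 0 → σ s = s⁻¹ ∨ σ s = -s⁻¹ := fun s hs => by
    have h := hinvall s hs
    rw [map_mul, mul_inv] at h
    exact mul_self_eq_mul_self_iff.1 h
  have hσσ : σ * σ = 1 := RingEquiv.ext fun x => DFunLike.congr_fun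
    (eq_of_eq_on_sq h2 (σ * σ : F ≃+* F).toRingHom (RingHom.id F) fun t => by
      show σ (σ (t * t)) = t * t
      by_cases ht : t = 0
      · simp [ht]
      rw [hinvall t ht, map_inv₀, hinvall t ht, inv_inv]) x
  have hwfix : (wel : SL).1.map σ = (wel : SL).1 := by
    show ((wel : SL) : M).map σ = ((wel : SL) : M)
    rw [wel_coe]
    ext r c
    fin_cases r <;> fin_cases c <;> simp
  set W : GL (Fin 2) F := Matrix.SpecialLinearGroup.toGL (wel : SL)
  have hW : (W : M) = !![0, 1; -1, 0] := wel_coe
  have hWfix : fieldGL σ W = W := Units.ext (by rw [fieldGL_coe]; exact hwfix)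
  have hdef : MulAut.conj (QuotientGroup.mk (wel : SL) : PSL) = gAut W := conj_mk_eq_gAut _
  set d₀ : MulAut PSL := MulAut.conj (QuotientGroup.mk (wel : SL) : PSL)
  have hd₀τ : Commute d₀ (MulAut.conj τ) := by
    refine commute_conj ?_
    rw [hdef, show (gAut W : MulAut PSL) = gAut W * fAut (1 : F ≃+* F) by rw [map_one, mul_one]]
    refine apply_mk_eq (-1) ?_
    rw [hW]
    show _ * (!![i, 0; 0, i⁻¹] : M).map _ = (-1 : F) • (!![i, 0; 0, i⁻¹] * _)
    ext r c
    fin_cases r <;> fin_cases c <;> simp [map2, hinv]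
  rcases hacase with rfl | hns
  · -- `a = 1`
    have hf : (fAut σ : MulAut PSL) ∈ B := by
      have h5 : (gAut (dg (1 : F) ha) : MulAut PSL) = 1 := by
        rw [show dg (1 : F) ha = 1 from Units.ext (by rw [dg_coe, Units.val_one, one_fin_two]), map_one]
      have := he
      rwa [hedef, h5, one_mul] at this
    set d : MulAut PSL := d₀ * fAut σ with hd
    have hdB : d ∈ B := mul_mem (hinn _) hf
    have hd2 : d * d = 1 := by
      rw [hd, hdef, mul_assoc, ← mul_assoc (fAut σ) (gAut W), fAut_mul_gAut, hWfix, mul_assoc (gAut W),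
        ← map_mul (fAut (F := F) (n := 2)), hσσ, map_one, mul_one, ← map_mul,
        gAut_eq_one_iff le_rfl, Matrix.GeneralLinearGroup.mem_center_iff_val_mem_range_scalar]
      refine ⟨-1, ?_⟩
      rw [Units.val_mul, hW]
      ext r c
      fin_cases r <;> fin_cases c <;> simp
    have hdgen : ∀ (s : F) (hs : s ≠ 0),
        d (QuotientGroup.mk (torus s hs) : PSL) = QuotientGroup.mk (torus s hs) := by
      intro s hs
      rw [hd, hdef]
      rcases hpm s hs with h | h
      · refine apply_mk_eq 1 ?_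
        show _ * (!![s, 0; 0, s⁻¹] : M).map σ = (1 : F) • (!![s, 0; 0, s⁻¹] * _)
        rw [hW]
        ext r c
        fin_cases r <;> fin_cases c <;> simp [map2, h, map_inv₀]
      · refine apply_mk_eq (-1) ?_
        show _ * (!![s, 0; 0, s⁻¹] : M).map σ = (-1 : F) • (!![s, 0; 0, s⁻¹] * _)
        rw [hW]
        ext r c
        fin_cases r <;> fin_cases c <;> simp [map2, h, map_inv₀, inv_neg]
    obtain ⟨s, hs, hs4⟩ : ∃ s : F, s ≠ 0 ∧ s * s * (s * s) ≠ 1 := by
      by_contra hall
      push Not at hall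
      refine hσ (RingEquiv.ext fun x => DFunLike.congr_fun
        (eq_of_eq_on_sq h2 σ.toRingHom (RingHom.id F) fun t => ?_) x)
      show σ (t * t) = t * t
      by_cases ht : t = 0
      · simp [ht]
      rw [hinvall t ht]
      exact inv_eq_of_mul_eq_one_right (hall t ht)
    have hcases := (hR τ hτ).2 _ (hinn _) d hdB (htorus s hs)
      (commute_conj (hdgen i hi0)) (hsq s hs hs4) hd2 (commute_conj (hdgen s hs)).symm
    have hne : ∀ g : GL (Fin 2) F, (gAut g : MulAut PSL) = d → False := by
      intro g hg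
      refine hσ (mul_field_eq_one le_rfl (g := g⁻¹ * W) (σ := σ) ?_).1
      rw [map_mul, mul_assoc, map_inv, ← hdef, ← hd, hg, inv_mul_cancel]
    rcases hcases with h | h
    · exact hne 1 (by rw [map_one, h])
    · exact hne _ ((conj_mk_eq_gAut _).symm.trans h.symm)
  · -- `a` is not a square
    have ha1 : a * a ≠ 1 := fun h => by
      rcases pm_of_mul_self h with rfl | rfl
      · exact hns ⟨1, by ring⟩
      · exact hns ⟨i, hi.symm⟩
    have hq9 : Fintype.card F = 9 := by
      have hcount : Fintype.card F ≤ 10 := by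
        refine le_trans (Finset.card_le_card (s := Finset.univ) (t := {0, -1} ∪
          ((Finset.univ.filter fun x : F => x * x + 1 * x + 1 = 0) ∪
          (Finset.univ.filter fun x : F => x * x + 3 * x + 1 = 0) ∪
          (Finset.univ.filter fun x : F => x * x + (-1) * x + (-1) = 0) ∪
          (Finset.univ.filter fun x : F => x * x + 1 * x + (-1) = 0))) fun x _ => ?_) ?_
        · by_cases hx0 : x = 0
          · simp [hx0]
          by_cases hx1 : x + 1 = 0
          · simp [eq_neg_of_add_eq_zero_left hx1]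
          simp only [Finset.mem_union, Finset.mem_filter, Finset.mem_univ, true_and]
          right
          rcases hpm x hx0 with h | h <;> rcases hpm (x + 1) hx1 with h' | h' <;>
            rw [map_add, map_one, h] at h' <;> field_simp at h'
          · exact Or.inl (Or.inl (Or.inl (by linear_combination h')))
          · exact Or.inl (Or.inl (Or.inr (by linear_combination h')))
          · exact Or.inl (Or.inr (by linear_combination h'))
          · exact Or.inr (by linear_combination h')
        · refine (Finset.card_union_le _ _).trans ?_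
          have := card_quad_le (F := F)
          calc _ ≤ 2 + (2 + 2 + 2 + 2) := by
                refine add_le_add Finset.card_le_two ((Finset.card_union_le _ _).trans (add_le_add ?_ (this _ _)))
                exact (Finset.card_union_le _ _).trans (add_le_add
                  ((Finset.card_union_le _ _).trans (add_le_add (this _ _) (this _ _))) (this _ _))
            _ = 10 := rfl
      by_contra hne9
      have h5 : Fintype.card F = 5 := by
        have := Fintype.one_lt_card (α := F)
        omega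
      haveI : Fact (Nat.Prime 5) := ⟨by norm_num⟩
      let f := ZMod.ringEquivOfPrime F (by norm_num : Nat.Prime 5) h5
      refine hσ (RingEquiv.ext fun x => ?_)
      obtain ⟨z, rfl⟩ := f.surjective x
      exact DFunLike.congr_fun (Subsingleton.elim (σ.toRingHom.comp f.toRingHom) f.toRingHom) z
    haveI : Fact (Nat.Prime 3) := ⟨Nat.prime_three⟩
    haveI : CharP F 3 := charP_of_card_eq_prime_pow (f := 2) (by rw [hq9]; rfl)
    have hcube : ∀ x : F, σ x = x ^ 3 := fun x => DFunLike.congr_fun
      (eq_of_eq_on_sq h2 σ.toRingHom (frobenius F 3) fun t => by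
        show σ (t * t) = (t * t) ^ 3
        by_cases ht : t = 0
        · simp [ht]
        rw [hinvall t ht]
        refine inv_eq_of_mul_eq_one_right ?_
        have h5 := FiniteField.pow_card_sub_one_eq_one t ht
        rw [hq9] at h5
        linear_combination h5) x
    have ha4 : a ^ 4 = -1 := by
      rcases FiniteField.pow_dichotomy hchar ha with h | h
      · exact absurd ((FiniteField.isSquare_iff hchar ha).2 h) hns
      · rwa [hq9] at h
    have hfW : fieldGL σ (dg a ha) = dg (σ a) (by simpa using ha) := fieldGL_dg σ a ha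
    have hee : e * e = gAut (dg a ha * fieldGL σ (dg a ha)) := by
      rw [hedef, mul_assoc, ← mul_assoc (fAut σ) (gAut (dg a ha)), fAut_mul_gAut,
        mul_assoc (gAut (fieldGL σ _)), ← map_mul (fAut (F := F) (n := 2)), hσσ, map_one, mul_one, map_mul]
    have he2 : e * e ≠ 1 := by
      rw [hee, Ne, gAut_eq_one_iff le_rfl, Matrix.GeneralLinearGroup.mem_center_iff_val_mem_range_scalar]
      rintro ⟨c, hc⟩
      rw [Units.val_mul, hfW, dg_coe, dg_coe] at hc
      have h00 := congrFun (congrFun hc 0) 0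
      have h11 := congrFun (congrFun hc 1) 1
      simp [hcube] at h00 h11
      refine hone ?_
      calc (1 : F) = a * a ^ 3 := by rw [← h11, h00]
        _ = a ^ 4 := by ring
        _ = -1 := ha4
    have hd₀e : d₀ * e * d₀⁻¹ = gAut (W * dg a ha * W⁻¹) * fAut σ := by
      rw [hdef, hedef, ← map_inv (gAut (F := F) (n := 2)), mul_assoc, mul_assoc, fAut_mul_gAut,
        map_inv (fieldGL σ), hWfix, ← mul_assoc, ← mul_assoc, ← map_mul, ← map_mul, mul_assoc W]
    have hscalar : ∀ {A : GL (Fin 2) F}, (gAut A : MulAut PSL) = 1 → (A : M) 0 0 = (A : M) 1 1 := by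
      intro A hA
      obtain ⟨c, hc⟩ := Matrix.GeneralLinearGroup.mem_center_iff_val_mem_range_scalar.1
        ((gAut_eq_one_iff le_rfl A).1 hA)
      rw [← hc]
      simp
    have hWinv : ((W⁻¹ : GL (Fin 2) F) : M) = !![0, -1; 1, 0] := by
      rw [Matrix.coe_units_inv, hW]
      exact Matrix.inv_eq_right_inv (by ext r c; fin_cases r <;> fin_cases c <;> simp)
    have hconjd : ((W * dg a ha * W⁻¹ : GL (Fin 2) F) : M) = !![1, 0; 0, a] := by
      rw [Units.val_mul, Units.val_mul, hW, hWinv, dg_coe]
      ext r c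
      fin_cases r <;> fin_cases c <;> simp
    rcases (hR τ hτ).1 e he d₀ (hinn _) heτ hd₀τ he2 with h | h
    · rw [hd₀e, hedef] at h
      have h5 := mul_right_cancel h
      have h6 := hscalar (A := (W * dg a ha * W⁻¹) * (dg a ha)⁻¹) (by
        rw [map_mul, map_inv, h5, mul_inv_cancel])
      have hdinv : (((dg a ha)⁻¹ : GL (Fin 2) F) : M) = !![a⁻¹, 0; 0, 1] := by
        rw [Matrix.coe_units_inv, dg_coe]
        exact Matrix.inv_eq_right_inv (by ext r c; fin_cases r <;> fin_cases c <;> simp [ha])
      rw [Units.val_mul, hconjd, hdinv] at h6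
      simp at h6
      exact ha1 (by field_simp at h6; linear_combination -h6)
    · have h5 : d₀ * e * d₀⁻¹ * e = 1 := by rw [h, inv_mul_cancel]
      rw [hd₀e, hedef, mul_assoc, ← mul_assoc (fAut σ) (gAut (dg a ha)), fAut_mul_gAut,
        mul_assoc (gAut (fieldGL σ _)), ← map_mul (fAut (F := F) (n := 2)), hσσ, map_one, mul_one,
        ← map_mul] at h5
      have h6 := hscalar h5
      rw [Units.val_mul, hconjd, hfW, dg_coe] at h6
      simp [hcube] at h6
      exact ha1 (mul_left_cancel₀ ha (by linear_combination h6))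

end

/-- Only inner and diagonal automorphisms occur. -/
theorem mem_range (hodd : Odd (Fintype.card F)) (B : Subgroup (MulAut PSL))
    (hinn : ∀ y : PSL, MulAut.conj y ∈ B)
    (hinj : Function.Injective (MulAut.conj : PSL → MulAut PSL))
    (hR : ∀ x : PSL, orderOf x = 2 → RigidAt B x) {β : MulAut PSL} (hβ : β ∈ B) :
    β ∈ (gAut (n := 2) (F := F)).range := by
  classical
  obtain ⟨h2, hchar⟩ := two_ne_zero_of_odd hodd
  obtain ⟨g, σ, rfl⟩ := exists_decomp_two β
  suffices hσ : σ = 1 by exact ⟨g, by rw [hσ, map_one, mul_one]⟩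
  set δ := (g : M).det with hδ
  have hδ0 : δ ≠ 0 := by simpa [hδ] using (Matrix.GeneralLinearGroup.det g).ne_zero
  have hmove : ∀ (a : F) (ha : a ≠ 0), IsSquare (a / δ) →
      (gAut (dg a ha) * fAut σ : MulAut PSL) ∈ B := by
    intro a ha ⟨c, hc⟩
    have hc0 : c ≠ 0 := fun e => by
      rw [e, mul_zero] at hc
      exact div_ne_zero ha hδ0 hc
    obtain ⟨y, hy⟩ : (gAut (dg a ha * g⁻¹) : MulAut PSL) ∈ Inn PSL := by
      rw [gAut_mem_inn_iff le_rfl]
      refine ⟨Units.mk0 c hc0, ?_⟩
      rw [Units.val_mk0, pow_two, ← hc, Units.val_mul, Matrix.det_mul, Matrix.coe_units_inv,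
        Matrix.det_nonsing_inv, dg_coe, Matrix.det_fin_two_of, ← hδ, Ring.inverse_eq_inv', div_eq_mul_inv]
      ring
    have h5 := mul_mem (hy ▸ hinn y : (gAut (dg a ha * g⁻¹) : MulAut PSL) ∈ B) hβ
    rwa [← mul_assoc, ← map_mul, inv_mul_cancel_right] at h5
  have hns : ∀ {a b : F}, a ≠ 0 → b ≠ 0 → ¬ IsSquare a → ¬ IsSquare b → IsSquare (a / b) := by
    intro a b ha hb hna hnb
    rw [FiniteField.isSquare_iff hchar (div_ne_zero ha hb), div_pow]
    rw [FiniteField.isSquare_iff hchar ha] at hna
    rw [FiniteField.isSquare_iff hchar hb] at hnb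
    rw [(FiniteField.pow_dichotomy hchar ha).resolve_left hna,
      (FiniteField.pow_dichotomy hchar hb).resolve_left hnb, div_self (neg_ne_zero.2 one_ne_zero)]
  have hq : Fintype.card F % 4 = 1 ∨ Fintype.card F % 4 = 3 := by
    obtain ⟨m, hm⟩ := hodd; omega
  by_cases hsq : IsSquare δ
  · have he := hmove 1 one_ne_zero (by rw [one_div]; exact hsq.inv)
    rcases hq with h | h
    · exact no_field_one h hinn hinj hR he (Or.inl rfl)
    · exact no_field_three h hinn hinj hR he (one_mul 1)
  · rcases hq with h | h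
    · obtain ⟨a, ha⟩ := FiniteField.exists_nonsquare hchar
      have ha0 : a ≠ 0 := fun e => ha (e ▸ ⟨0, by simp⟩)
      exact no_field_one h hinn hinj hR (hmove a ha0 (hns ha0 hδ0 ha hsq)) (Or.inr ha)
    · have hne : ¬ IsSquare (-1 : F) := fun hs => FiniteField.isSquare_neg_one_iff.1 hs h
      exact no_field_three h hinn hinj hR
        (hmove (-1) (neg_ne_zero.2 one_ne_zero) (hns (neg_ne_zero.2 one_ne_zero) hδ0 hne hsq)) (by ring)

end Cfsg.Agent.Partition.Outer
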