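import Mathlib
import Cfsg.Prelude.Def_Solvable
import Cfsg.Agent.S4249
import Cfsg.Agent.Lib.CN.Basic
import Cfsg.Agent.Lib.Involutions.Basic

/-!
# Groups with a partition

An arbitrary partition is refined to one that is invariant under conjugation; then the basic
properties of its components are proved.
-/

set_option autoImplicit false
set_option linter.unusedSectionVars false
set_option linter.style.haveILetI false

open scoped Pointwise

namespace Cfsg.Agent.Partition

variable {G : Type*} [Group G]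

/-- A nontrivial partition, invariant under conjugation, given by the component of each element. -/
structure Part (G : Type*) [Group G] where
  comp : G → Subgroup G
  mem : ∀ g, g ∈ comp g
  eq_of_mem : ∀ {g k : G}, g ≠ 1 → k ≠ 1 → k ∈ comp g → comp k = comp g
  conj : ∀ h g x : G, x ∈ comp g ↔ h * x * h⁻¹ ∈ comp (h * g * h⁻¹)
  ne_top : ∀ {g : G}, g ≠ 1 → comp g ≠ ⊤

/-- The intersection of all conjugates of a partition. -/
theorem exists_part (S : Set (Subgroup G)) (hS2 : ∃ H ∈ S, ∃ K ∈ S, H ≠ K)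
    (hS1 : ∀ H ∈ S, H ≠ ⊥) (hpart : ∀ g : G, g ≠ 1 → ∃! H : Subgroup G, H ∈ S ∧ g ∈ H) :
    Nonempty (Part G) := by
  classical
  let c : G → Subgroup G := fun g => if h : g = 1 then ⊥ else (hpart g h).choose
  have hc : ∀ {g}, g ≠ 1 → c g ∈ S ∧ g ∈ c g := by
    intro g h
    simp only [c, dif_neg h]
    exact (hpart g h).choose_spec.1
  have hcu : ∀ {g} (_ : g ≠ 1) {H : Subgroup G}, H ∈ S → g ∈ H → H = c g := by
    intro g h H hH hg
    simp only [c, dif_neg h]
    exact (hpart g h).choose_spec.2 H ⟨hH, hg⟩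
  have hcm : ∀ g, g ∈ c g := by
    intro g
    by_cases h : g = 1
    · subst h; exact one_mem _
    · exact (hc h).2
  have hceq : ∀ {g k : G}, g ≠ 1 → k ≠ 1 → k ∈ c g → c k = c g := fun hg hk hkg =>
    (hcu hk (hc hg).1 hkg).symm
  have hctop : ∀ {g : G}, g ≠ 1 → c g ≠ ⊤ := by
    intro g hg htop
    obtain ⟨H, hH, K, hK, hne⟩ := hS2
    have key : ∀ L ∈ S, L = ⊤ := by
      intro L hL
      obtain ⟨l, hl, hl1⟩ := (Subgroup.bot_or_exists_ne_one L).resolve_left (hS1 L hL)
      rw [hcu hl1 hL hl, hceq hg hl1 (htop ▸ Subgroup.mem_top l), htop]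
    exact hne ((key H hH).trans (key K hK).symm)
  have hne : ∀ {h g : G}, g ≠ 1 → h⁻¹ * g * h ≠ 1 := by
    intro h g hg he
    exact hg (by
      calc g = h * (h⁻¹ * g * h) * h⁻¹ := by group
        _ = 1 := by rw [he]; group)
  let d : G → Subgroup G := fun g => ⨅ h : G, (c (h⁻¹ * g * h)).comap (MulAut.conj h⁻¹).toMonoidHom
  have hd : ∀ {g x : G}, x ∈ d g ↔ ∀ h, h⁻¹ * x * h ∈ c (h⁻¹ * g * h) := by
    intro g x
    simp [d, Subgroup.mem_iInf]
  refine ⟨{ comp := d, mem := fun g => hd.2 fun h => hcm _, eq_of_mem := ?_, conj := ?_, ne_top := ?_ }⟩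
  · intro g k hg hk hkg
    have h1 : ∀ h, c (h⁻¹ * k * h) = c (h⁻¹ * g * h) := fun h =>
      hceq (hne hg) (hne hk) (hd.1 hkg h)
    simp only [d, h1]
  · intro a g x
    simp only [hd]
    constructor
    · intro hx h
      have := hx (a⁻¹ * h)
      simpa [mul_assoc] using this
    · intro hx h
      have := hx (a * h)
      simpa [mul_assoc] using this
  · intro g hg htop
    refine hctop hg (eq_top_iff.2 fun x _ => ?_)
    have := hd.1 (htop ▸ Subgroup.mem_top x : x ∈ d g) 1
    simpa using this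

namespace Part

variable (T : Part G)

/-- The normalizer of a component. -/
abbrev nor (g : G) : Subgroup G := Subgroup.normalizer (T.comp g : Set G)

theorem ne_bot {g : G} (hg : g ≠ 1) : T.comp g ≠ ⊥ := fun h =>
  hg (Subgroup.mem_bot.1 (h ▸ T.mem g))

theorem comp_conj (h g : G) :
    T.comp (h * g * h⁻¹) = (T.comp g).map (MulAut.conj h).toMonoidHom := by
  ext x
  constructor
  · intro hx
    refine ⟨h⁻¹ * x * h, (T.conj h g _).2 ?_, ?_⟩
    · simpa [mul_assoc] using hx
    · simp [mul_assoc]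
  · rintro ⟨y, hy, rfl⟩
    simpa using (T.conj h g y).1 hy

theorem mem_comp_of_pow {g : G} (n : ℕ) : g ^ n ∈ T.comp g := pow_mem (T.mem g) n

theorem comp_pow {g : G} {n : ℕ} (h : g ^ n ≠ 1) : T.comp (g ^ n) = T.comp g :=
  T.eq_of_mem (fun e => h (by rw [e, one_pow])) h (T.mem_comp_of_pow n)

theorem eq_one_of_mem_of_mem {a b x : G} (ha : a ≠ 1) (hb : b ≠ 1) (hne : T.comp a ≠ T.comp b)
    (hxa : x ∈ T.comp a) (hxb : x ∈ T.comp b) : x = 1 := by
  by_contra hx
  exact hne ((T.eq_of_mem ha hx hxa).symm.trans (T.eq_of_mem hb hx hxb))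

theorem conj_mem_nor {g h : G} (hh : h ∈ T.nor g) {x : G} :
    h * x * h⁻¹ ∈ T.comp g ↔ x ∈ T.comp g :=
  ((Subgroup.mem_normalizer_iff.1 hh) x).symm

theorem mem_nor_iff {g h : G} (hg : g ≠ 1) : h ∈ T.nor g ↔ h * g * h⁻¹ ∈ T.comp g := by
  refine ⟨fun hh => (T.conj_mem_nor hh).2 (T.mem g), fun hh => Subgroup.mem_normalizer_iff.2 fun x => ?_⟩
  have h1 : T.comp (h * g * h⁻¹) = T.comp g :=
    T.eq_of_mem hg (fun e => hg (conj_eq_one_iff.1 e)) hh
  rw [T.conj h g x, h1]

theorem mem_nor_of_commute {g h : G} (hg : g ≠ 1) (hc : Commute h g) : h ∈ T.nor g :=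
  (T.mem_nor_iff hg).2 (by rw [hc.eq, mul_inv_cancel_right]; exact T.mem g)

theorem nor_eq_of_mem {g x : G} (hg : g ≠ 1) (hx : x ≠ 1) (hxg : x ∈ T.comp g) :
    T.nor x = T.nor g := by
  rw [nor, nor, T.eq_of_mem hg hx hxg]

variable [Finite G]

/-- Commuting elements of different components have the same prime order. -/
theorem orderOf_eq_of_commute {x y : G} (hx : x ≠ 1) (hy : y ≠ 1) (hc : Commute x y)
    (hne : T.comp x ≠ T.comp y) : orderOf x = orderOf y ∧ (orderOf x).Prime := by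
  have key : ∀ {u v : G}, u ≠ 1 → v ≠ 1 → Commute u v → T.comp u ≠ T.comp v →
      orderOf v ≤ orderOf u := by
    intro u v hu hv huv huv'
    by_contra hlt
    push Not at hlt
    have hn : v ^ orderOf u ≠ 1 := pow_ne_one_of_lt_orderOf (orderOf_pos u).ne' hlt
    have hw : u * v ≠ 1 := fun e => huv' (T.eq_of_mem hv hu (by
      rw [eq_inv_of_mul_eq_one_left e]; exact inv_mem (T.mem v)))
    have h1 : (u * v) ^ orderOf u = v ^ orderOf u := by
      rw [huv.mul_pow, pow_orderOf_eq_one, one_mul]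
    have h2 : T.comp (u * v) = T.comp v := by
      rw [← T.comp_pow (n := orderOf u) (by rwa [h1]), h1, T.comp_pow hn]
    refine huv' (T.eq_of_mem hv hu ?_)
    have h3 := mul_mem (T.mem (u * v)) (h2.symm ▸ inv_mem (T.mem v) : v⁻¹ ∈ T.comp (u * v))
    rw [mul_inv_cancel_right, h2] at h3
    exact h3
  have heq : orderOf x = orderOf y :=
    le_antisymm (key hy hx hc.symm hne.symm) (key hx hy hc hne)
  refine ⟨heq, ?_⟩
  by_contra hnp
  have h1 : orderOf x ≠ 1 := fun e => hx (orderOf_eq_one_iff.1 e)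
  obtain ⟨q, hq, hqd⟩ := Nat.exists_prime_and_dvd h1
  have hlt : q < orderOf x :=
    lt_of_le_of_ne (Nat.le_of_dvd (orderOf_pos x) hqd) fun e => hnp (e ▸ hq)
  have hxq : x ^ q ≠ 1 := pow_ne_one_of_lt_orderOf hq.ne_zero hlt
  have h2 := key hxq hy (hc.pow_left q) (by rw [T.comp_pow hxq]; exact hne)
  rw [← heq, orderOf_pow_of_dvd hq.ne_zero hqd] at h2
  exact absurd h2 (not_le.2 (Nat.div_lt_self (orderOf_pos x) hq.one_lt))

theorem mem_comp_of_commute {x y : G} (hx : x ≠ 1) (hc : Commute x y)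
    (ho : orderOf x ≠ orderOf y) : y ∈ T.comp x := by
  by_cases hy : y = 1
  · subst hy; exact one_mem _
  by_cases hne : T.comp x = T.comp y
  · rw [hne]; exact T.mem y
  · exact absurd (T.orderOf_eq_of_commute hx hy hc hne).1 ho

theorem pow_prime_eq_one {x y : G} {p : ℕ} (hp : p.Prime) (hx : x ≠ 1) (hxp : x ^ p = 1)
    (hc : Commute x y) (hne : y ∉ T.comp x) : y ^ p = 1 := by
  have h1 : orderOf x = orderOf y := by
    by_contra h
    exact hne (T.mem_comp_of_commute hx hc h)
  have h2 : orderOf x ∣ p := orderOf_dvd_of_pow_eq_one hxp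
  exact orderOf_dvd_iff_pow_eq_one.1 (h1 ▸ h2)

/-- An element normalising a component from outside meets it trivially. -/
theorem pow_mem_iff {g y : G} (hg : g ≠ 1) (hy : y ∉ T.comp g) (k : ℕ) :
    y ^ k ∈ T.comp g ↔ y ^ k = 1 := by
  refine ⟨fun h => ?_, fun h => h ▸ one_mem _⟩
  by_contra hk
  refine hy ?_
  rw [← T.eq_of_mem hg hk h, T.comp_pow hk]
  exact T.mem y

/-- The elements of a coset of a component in its normalizer have the same order. -/
theorem orderOf_mul_eq {g y x : G} (hg : g ≠ 1) (hy : y ∈ T.nor g) (hyg : y ∉ T.comp g)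
    (hx : x ∈ T.comp g) : orderOf (y * x) = orderOf y := by
  have hyx : y * x ∉ T.comp g := fun h => hyg (by simpa using mul_mem h (inv_mem hx))
  have key : ∀ k : ℕ, (y * x) ^ k ∈ T.comp g ↔ y ^ k ∈ T.comp g := by
    intro k
    have h1 : (y ^ k)⁻¹ * (y * x) ^ k ∈ T.comp g := by
      induction k with
      | zero => simp
      | succ k ih =>
        have h2 : (y ^ (k + 1))⁻¹ * (y * x) ^ (k + 1) =
            y⁻¹ * ((y ^ k)⁻¹ * (y * x) ^ k) * (y⁻¹)⁻¹ * x := by
          rw [pow_succ, pow_succ, inv_inv]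
          simp [mul_assoc]
        rw [h2]
        exact mul_mem ((T.conj_mem_nor (inv_mem hy)).2 ih) hx
    constructor
    · intro h
      have := mul_mem h (inv_mem h1)
      simpa [mul_assoc] using this
    · intro h
      have := mul_mem h h1
      simpa using this
  refine Nat.dvd_antisymm (orderOf_dvd_of_pow_eq_one ?_) (orderOf_dvd_of_pow_eq_one ?_)
  · rw [← T.pow_mem_iff hg hyx, key, pow_orderOf_eq_one]
    exact one_mem _
  · rw [← T.pow_mem_iff hg hyg, ← key, pow_orderOf_eq_one]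
    exact one_mem _

theorem exists_nor_prime {g : G} (hg : g ≠ 1) (hN : T.nor g ≠ T.comp g) :
    ∃ y ∈ T.nor g, y ∉ T.comp g ∧ (orderOf y).Prime := by
  obtain ⟨y, hy, hyg⟩ : ∃ y ∈ T.nor g, y ∉ T.comp g := by
    by_contra hall
    push Not at hall
    exact hN (le_antisymm hall Subgroup.le_normalizer)
  have h1 : orderOf y ≠ 1 := fun e => hyg (by rw [orderOf_eq_one_iff.1 e]; exact one_mem _)
  obtain ⟨r, hr, hrd⟩ := Nat.exists_prime_and_dvd h1
  have ho := orderOf_pow_orderOf_div (orderOf_pos y).ne' hrd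
  refine ⟨y ^ (orderOf y / r), pow_mem hy _, fun h => ?_, by rwa [ho]⟩
  rw [T.pow_mem_iff hg hyg] at h
  rw [h, orderOf_one] at ho
  exact hr.one_lt.ne ho

/-- A component with a larger normalizer is nilpotent. -/
theorem isNilpotent_comp {g : G} (hg : g ≠ 1) (hN : T.nor g ≠ T.comp g) :
    Group.IsNilpotent (T.comp g) := by
  classical
  obtain ⟨y, hy, hyg, hr⟩ := T.exists_nor_prime hg hN
  set r := orderOf y with hrdef
  haveI := Fact.mk hr
  set X := T.comp g
  by_cases hX : IsPGroup r X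
  · exact hX.isNilpotent
  set K := X ⊔ Subgroup.zpowers y with hK
  have hXK : X ≤ K := le_sup_left
  have hdec : ∀ z ∈ K, ∃ x ∈ X, ∃ i : ℕ, z = y ^ i * x := by
    intro z hz
    have h1 : z ∈ (↑(Subgroup.zpowers y) * ↑X : Set G) := by
      rw [← Subgroup.coe_mul_of_left_le_normalizer_right _ _ (Subgroup.zpowers_le.2 hy), sup_comm]
      exact hz
    obtain ⟨u, hu, x, hx, rfl⟩ := Set.mem_mul.1 h1
    obtain ⟨i, rfl⟩ := Submonoid.mem_powers_iff _ _ |>.1 (mem_powers_iff_mem_zpowers.2 hu)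
    exact ⟨x, hx, i, rfl⟩
  have hout : ∀ z ∈ K, z ∉ X → z ^ r = 1 := by
    intro z hz hzX
    obtain ⟨x, hx, i, rfl⟩ := hdec z hz
    have hi : y ^ i ∉ X := fun h => hzX (mul_mem h hx)
    rw [← orderOf_dvd_iff_pow_eq_one, T.orderOf_mul_eq hg (pow_mem hy i) hi hx]
    exact orderOf_pow_dvd i
  set C := Subgroup.closure {k : K | k ^ r ≠ 1} with hC
  have hCX : C ≤ X.subgroupOf K := by
    rw [hC, Subgroup.closure_le]
    intro k hk
    rw [SetLike.mem_coe, Subgroup.mem_subgroupOf]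
    by_contra hkX
    exact hk (Subtype.ext (by simpa using hout k k.2 hkX))
  have hyK : y ∈ K := Subgroup.mem_sup_right (Subgroup.mem_zpowers y)
  have hCtop : C ≠ ⊤ := fun h => hyg (by
    have := hCX (h ▸ Subgroup.mem_top (⟨y, hyK⟩ : K))
    simpa [Subgroup.mem_subgroupOf] using this)
  have hKp : ¬ IsPGroup r K := fun h => hX (h.to_le hXK)
  obtain ⟨hnil, hidx⟩ := Cfsg.Agent.S4249.result r hr hKp hCtop
  have hXne : X.subgroupOf K ≠ ⊤ := fun h => hyg (by
    have := (h ▸ Subgroup.mem_top _ : (⟨y, hyK⟩ : K) ∈ X.subgroupOf K)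
    simpa [Subgroup.mem_subgroupOf] using this)
  have heq : C = X.subgroupOf K := by
    refine Subgroup.eq_of_le_of_card_ge hCX ?_
    have h1 := Subgroup.index_dvd_of_le hCX
    rw [hidx] at h1
    have h2 : (X.subgroupOf K).index = r := by
      rcases (Nat.dvd_prime hr).1 h1 with h | h
      · exact absurd (Subgroup.index_eq_one.1 h) hXne
      · exact h
    have h3 := C.card_mul_index
    rw [hidx, ← (X.subgroupOf K).card_mul_index, h2] at h3
    exact (Nat.eq_of_mul_eq_mul_right hr.pos h3).ge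
  haveI : Group.IsNilpotent (X.subgroupOf K) := heq ▸ hnil
  exact (Group.isNilpotent_congr (Subgroup.subgroupOfEquivOfLe hXK)).1 inferInstance

/-- An outside element with commuting elements of another order fixes nothing in the component. -/
theorem no_mixed {g y u z : G} (hg : g ≠ 1) (hyg : y ∉ T.comp g)
    (hu : u ∈ T.nor g) (hu1 : u ≠ 1) (huy : Commute u y) (ho : orderOf u ≠ orderOf y)
    (hz : z ∈ T.comp g) (hzy : Commute z y) : z = 1 := by
  by_contra hz1
  have hy1 : y ≠ 1 := fun e => hyg (e ▸ one_mem _)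
  have hu' : u ∈ T.comp y := T.mem_comp_of_commute hy1 huy.symm ho.symm
  have hv : z * u * z⁻¹ ∈ T.comp y := by
    refine T.mem_comp_of_commute hy1 ?_ ?_
    · exact ((hzy.mul_left huy).mul_left hzy.inv_left).symm
    · rw [Involutions.Basic.orderOf_conj]
      exact ho.symm
  have hne : T.comp g ≠ T.comp y := fun e => hyg (by rw [e]; exact T.mem y)
  have h1 : z * u * z⁻¹ * u⁻¹ = 1 := by
    refine T.eq_one_of_mem_of_mem hg hy1 hne ?_ (mul_mem hv (inv_mem hu'))
    have h2 : z * u * z⁻¹ * u⁻¹ = z * (u * z⁻¹ * u⁻¹) := by group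
    rw [h2]
    exact mul_mem hz ((T.conj_mem_nor hu).2 (inv_mem hz))
  have hzu : Commute z u := by
    rw [mul_inv_eq_one, mul_inv_eq_iff_eq_mul] at h1
    exact h1
  have hcy : T.comp z ≠ T.comp y := by rw [T.eq_of_mem hg hz1 hz]; exact hne
  have h3 := (T.orderOf_eq_of_commute hz1 hy1 hzy hcy).1
  have hcu : T.comp z ≠ T.comp u := by rw [T.eq_of_mem hy1 hu1 hu']; exact hcy
  exact ho (((T.orderOf_eq_of_commute hz1 hu1 hzu hcu).1).symm.trans h3)

/-- A component which is its own normalizer is a Frobenius complement. -/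
theorem isFrobeniusComplement {g : G} (hg : g ≠ 1) (hN : T.nor g = T.comp g) :
    Cfsg.IsFrobeniusComplement (T.comp g) := by
  refine ⟨T.ne_bot hg, T.ne_top hg, fun h hh => (Subgroup.eq_bot_iff_forall _).2 fun k hk => ?_⟩
  by_contra hk1
  obtain ⟨hk2, hk3⟩ := hk
  obtain ⟨x, hx, rfl⟩ := Subgroup.mem_smul_pointwise_iff_exists _ _ _ |>.1 hk3
  simp only [MulAut.smul_def, MulAut.conj_apply] at hk2 hk1
  have hx1 : x ≠ 1 := fun e => hk1 (by rw [e]; simp)
  refine hh ?_
  rw [← hN, ← T.nor_eq_of_mem hg hx1 hx, T.mem_nor_iff hx1, T.eq_of_mem hg hx1 hx]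
  exact hk2

theorem isFrobenius_or_nor_ne (hF : ∀ H : Subgroup G, ¬ Cfsg.IsFrobeniusComplement H) {g : G}
    (hg : g ≠ 1) : T.nor g ≠ T.comp g := fun e => hF _ (T.isFrobeniusComplement hg e)

include T in
/-- Without a proper Hughes subgroup the centre is trivial. -/
theorem eq_one_of_central
    (hH : ∀ p : ℕ, p.Prime → Subgroup.closure {g : G | g ^ p ≠ 1} = ⊤) {z : G}
    (hz : ∀ g : G, Commute z g) : z = 1 := by
  by_contra hz1
  obtain ⟨g, hg⟩ : ∃ g, g ∉ T.comp z := by
    by_contra hall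
    push Not at hall
    exact T.ne_top hz1 (eq_top_iff.2 fun x _ => hall x)
  have hg1 : g ≠ 1 := fun e => hg (e ▸ one_mem _)
  have hp : (orderOf z).Prime := (T.orderOf_eq_of_commute hz1 hg1 (hz g) fun e => hg (by
    rw [e]; exact T.mem g)).2
  refine T.ne_top hz1 (top_le_iff.1 ((hH _ hp).ge.trans ((Subgroup.closure_le _).2 fun x hx => ?_)))
  by_contra hxz
  exact hx (T.pow_prime_eq_one hp hz1 (pow_orderOf_eq_one z) (hz x) hxz)

end Part

end Cfsg.Agent.Partition
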