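import Cfsg.Agent.S0205
import Cfsg.Agent.Lib.Involutions.StronglyEmbedded
import Cfsg.Agent.Lib.Involutions.RankOne.Char.Main
import Cfsg.Agent.Lib.Involutions.RankOne.Char.TwoGroup
import Cfsg.Agent.Lib.Involutions.RankOne.U3.WNeBot

/-!
# A strongly embedded subgroup with a kernel that contains the centralisers of its involutions

The counting on the cosets: the group is a two-dimensional linear group of even characteristic or
a Suzuki group.
-/

set_option autoImplicit false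
set_option linter.unusedSectionVars false
set_option linter.style.haveILetI false

open scoped Pointwise

namespace Cfsg.Agent.Partition.TI

open MulAction Involutions.Basic

universe u

variable {G : Type u} [Group G] [Finite G]

/-- The configuration which the counting works with. -/
structure Cfg (M Q : Subgroup G) : Prop where
  stronglyEmbedded : Cfsg.IsStronglyEmbedded M
  le : Q ≤ M
  conj_mem : ∀ g ∈ M, ∀ x ∈ Q, g * x * g⁻¹ ∈ Q
  involution_mem : ∀ {t : G}, t ∈ M → orderOf t = 2 → t ∈ Q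
  mem_of_commute : ∀ {t g : G}, t ∈ Q → orderOf t = 2 → Commute g t → g ∈ Q
  fixed : ∀ {x g : G}, x ∈ Q → g ∉ M → g⁻¹ * x * g ∈ M → x = 1
  two : ∃ x y : G, x ≠ 1 ∧ y ≠ 1 ∧ x ≠ y ∧ x * x = 1 ∧ y * y = 1 ∧ x * y = y * x ∧ x ∈ M ∧ y ∈ M

variable {M Q : Subgroup G} (h : Cfg M Q)

/-- The base point. -/
def base (M : Subgroup G) : G ⧸ M := ((1 : G) : G ⧸ M)

theorem stab_base (M : Subgroup G) : stabilizer G (base M) = M := MulAction.stabilizer_quotient M

theorem smul_base {g : G} : g • base M = base M ↔ g ∈ M := by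
  rw [← mem_stabilizer_iff, stab_base]

theorem exists_smul_base (x : G ⧸ M) : ∃ g : G, g • base M = x :=
  MulAction.exists_smul_eq G _ _

include h

theorem Cfg.ne_top : M ≠ ⊤ := h.stronglyEmbedded.1

theorem Cfg.even : 2 ∣ Nat.card Q := by
  obtain ⟨t, htM, ht⟩ := Involutions.StronglyEmbedded.exists_involution_mem h.stronglyEmbedded.2.1
  exact ht ▸ Subgroup.orderOf_dvd_natCard Q (h.involution_mem htM ht)

/-- The kernel is semiregular off the base point. -/
theorem Cfg.semiregular {x : G} (hx : x ∈ Q) {b : G ⧸ M} (hb : b ≠ base M) (hxb : x • b = b) :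
    x = 1 := by
  obtain ⟨g, rfl⟩ := exists_smul_base b
  exact h.fixed hx (fun e => hb (smul_base.2 e))
    (smul_base.1 (by rw [mul_smul, mul_smul, hxb, inv_smul_smul]))

/-- The number of involutions of `M`. -/
noncomputable def invs (M : Subgroup G) : ℕ := Nat.card {t : G // orderOf t = 2 ∧ t ∈ M}

theorem Cfg.two_le_invs : 2 ≤ invs M := by
  obtain ⟨x, y, hx1, hy1, hne, hx, hy, -, hxM, hyM⟩ := h.two
  haveI : Nontrivial {t : G // orderOf t = 2 ∧ t ∈ M} :=
    ⟨⟨x, orderOf_two_iff.2 ⟨hx, hx1⟩, hxM⟩, ⟨y, orderOf_two_iff.2 ⟨hy, hy1⟩, hyM⟩,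
      fun e => hne (congrArg Subtype.val e)⟩
  exact Finite.one_lt_card

theorem Cfg.exists_swapper {x y : G ⧸ M} (hxy : x ≠ y) :
    ∃ u : G, orderOf u = 2 ∧ u • x = y ∧ u • y = x := by
  have h1 := Involutions.StronglyEmbedded.card_swap h.stronglyEmbedded x y hxy
  have h2 := h.two_le_invs
  rw [invs, ← h1] at h2
  obtain ⟨⟨u, hu, hux⟩⟩ := (Nat.card_pos_iff.1 (show 0 < Nat.card {i : G // orderOf i = 2 ∧ i • x = y} by omega)).1
  exact ⟨u, hu, hux, by rw [← hux, smul_smul, inv_sq_one hu, one_smul]⟩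

omit h in
theorem inf_stab_eq {b : G ⧸ M} {u : G} (hua : u • base M = b) :
    M ⊓ stabilizer G b = M ⊓ M.map (MulAut.conj u).toMonoidHom := by
  ext d
  refine and_congr_right fun _ => ?_
  constructor
  · intro hd
    refine ⟨u⁻¹ * d * u, smul_base.1 ?_, ?_⟩
    · rw [mul_smul, mul_smul, hua, show d • b = b from hd, ← hua, inv_smul_smul]
    · show u * (u⁻¹ * d * u) * u⁻¹ = d
      group
  · rintro ⟨c, hc, rfl⟩
    show (u * c * u⁻¹) • b = b
    rw [← hua, mul_smul, mul_smul, inv_smul_smul, smul_base.2 hc]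

theorem Cfg.odd_card_stab {b : G ⧸ M} (hb : b ≠ base M) :
    Odd (Nat.card ↥(M ⊓ stabilizer G b)) := by
  obtain ⟨u, -, hua, -⟩ := h.exists_swapper hb.symm
  rw [inf_stab_eq hua]
  exact h.stronglyEmbedded.2.2 u fun e => hb (hua.symm.trans (smul_base.2 e))

theorem Cfg.odd_order {b : G ⧸ M} (hb : b ≠ base M) {d : G} (hd : d ∈ M) (hdb : d • b = b) :
    Odd (orderOf d) := by
  refine Odd.of_dvd_nat (h.odd_card_stab hb) ?_
  exact (Subgroup.orderOf_mk d (show d ∈ M ⊓ stabilizer G b from ⟨hd, hdb⟩)) ▸ orderOf_dvd_natCard _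

theorem Cfg.transitive_invs {b : G ⧸ M} (hb : b ≠ base M) {s t : G} (hs : orderOf s = 2)
    (hsM : s ∈ M) (ht : orderOf t = 2) (htM : t ∈ M) :
    ∃ d ∈ M ⊓ stabilizer G b, d * s * d⁻¹ = t := by
  obtain ⟨u, hu, hua, -⟩ := h.exists_swapper hb.symm
  rw [inf_stab_eq hua]
  exact Involutions.StronglyEmbedded.exists_conj_in_inter h.stronglyEmbedded hu
    (fun e => hb (hua.symm.trans (smul_base.2 e))) hs hsM ht htM

/-- A two-point stabiliser is regular on the involutions of `M`. -/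
theorem Cfg.card_stab {b : G ⧸ M} (hb : b ≠ base M) :
    Nat.card ↥(M ⊓ stabilizer G b) = invs M := by
  obtain ⟨t, htM, ht⟩ := Involutions.StronglyEmbedded.exists_involution_mem h.stronglyEmbedded.2.1
  refine Nat.card_congr (Equiv.ofBijective (fun d => ⟨(d : G) * t * (d : G)⁻¹,
    by rw [orderOf_conj, ht], mul_mem (mul_mem d.2.1 htM) (inv_mem d.2.1)⟩) ⟨fun d e hde => ?_, fun s => ?_⟩)
  · have hc : Commute ((e : G)⁻¹ * d) t := by
      have h1 : (d : G) * t * (d : G)⁻¹ = e * t * (e : G)⁻¹ :=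
        congrArg (fun s : {t : G // orderOf t = 2 ∧ t ∈ M} => (s : G)) hde
      show (e : G)⁻¹ * d * t = t * ((e : G)⁻¹ * d)
      calc (e : G)⁻¹ * d * t = (e : G)⁻¹ * (d * t * (d : G)⁻¹) * d := by group
        _ = _ := by rw [h1]; group
    have h2 := h.semiregular (h.mem_of_commute (h.involution_mem htM ht) ht hc) hb
      (show ((e : G)⁻¹ * d) • b = b from (mul_mem (inv_mem e.2) d.2 : _ ∈ M ⊓ stabilizer G b).2)
    exact Subtype.ext (inv_mul_eq_one.1 h2).symm
  · obtain ⟨d, hd, hds⟩ := h.transitive_invs hb ht htM s.2.1 s.2.2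
    exact ⟨⟨d, hd⟩, Subtype.ext hds⟩

/-- An involution interchanging two points inverts their stabiliser. -/
theorem Cfg.swap_inverts {u : G} (hu : orderOf u = 2) {x y : G ⧸ M} (hxy : x ≠ y) (hux : u • x = y)
    {d : G} (hdx : d • x = x) (hdy : d • y = y) : u * d * u⁻¹ = d⁻¹ := by
  -- at the base point
  suffices key : ∀ (u : G) (b : G ⧸ M) (d : G), orderOf u = 2 → b ≠ base M → u • base M = b → d ∈ M →
      d • b = b → u * d * u⁻¹ = d⁻¹ by
    obtain ⟨g, rfl⟩ := exists_smul_base x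
    have h1 := key (g⁻¹ * u * g) (g⁻¹ • y) (g⁻¹ * d * g) ?_ ?_ ?_ ?_ ?_
    · calc u * d * u⁻¹ = g * ((g⁻¹ * u * g) * (g⁻¹ * d * g) * (g⁻¹ * u * g)⁻¹) * g⁻¹ := by group
        _ = g * (g⁻¹ * d * g)⁻¹ * g⁻¹ := by rw [h1]
        _ = d⁻¹ := by group
    · have h5 := orderOf_conj g⁻¹ u
      rw [inv_inv, hu] at h5
      exact h5
    · exact fun e => hxy (by rw [← e, smul_inv_smul])
    · rw [mul_smul, mul_smul, hux]
    · exact smul_base.1 (by rw [mul_smul, mul_smul, hdx, inv_smul_smul])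
    · rw [mul_smul, mul_smul, smul_inv_smul, hdy]
  intro u b d hu hb hua hd hdb
  have hub : u • b = base M := by rw [← hua, smul_smul, inv_sq_one hu, one_smul]
  let φ : {i : G // orderOf i = 2 ∧ i • base M = b} → ↥(M ⊓ stabilizer G b) := fun i =>
    ⟨u * i, smul_base.1 (by rw [mul_smul, i.2.2, hub]), by
      show (u * (i : G)) • b = b
      rw [mul_smul, show (i : G) • b = base M from
        (smul_eq_iff_eq_inv_smul _).2 (by rw [inv_eq i.2.1]; exact i.2.2.symm), hua]⟩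
  have hφ : Function.Bijective φ := (Nat.bijective_iff_injective_and_card φ).2
    ⟨fun i j hij => Subtype.ext (mul_left_cancel (congrArg Subtype.val hij)), by
      rw [h.card_stab hb]
      exact Involutions.StronglyEmbedded.card_swap h.stronglyEmbedded _ _ hb.symm⟩
  obtain ⟨⟨i, hi, hia⟩, hid⟩ := hφ.2 ⟨d, hd, hdb⟩
  have hid' : u * i = d := congrArg Subtype.val hid
  have h2 : i = u * d := by rw [← hid', ← mul_assoc, inv_sq_one hu, one_mul]
  have h3 := inv_sq_one hi
  rw [h2] at h3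
  rw [inv_eq hu]
  exact eq_inv_of_mul_eq_one_left (by rw [← h3]; group)

/-- Only the identity fixes three points. -/
theorem Cfg.three_trivial {d : G} (hd : d ∈ M) {b c : G ⧸ M} (hb : b ≠ base M) (hc : c ≠ base M)
    (hbc : b ≠ c) (hdb : d • b = b) (hdc : d • c = c) : d = 1 := by
  have hda : d • base M = base M := smul_base.2 hd
  obtain ⟨u₃, hu₃, h3a, -⟩ := h.exists_swapper hb.symm
  obtain ⟨u₂, hu₂, h2b, -⟩ := h.exists_swapper hbc
  obtain ⟨u₁, hu₁, h1c, -⟩ := h.exists_swapper hc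
  set g := u₁ * (u₂ * u₃) with hg
  have hgM : g ∈ M := smul_base.1 (by rw [hg, mul_smul, mul_smul, h3a, h2b, h1c])
  have hinv : g * d * g⁻¹ = d⁻¹ := by
    have e3 := h.swap_inverts hu₃ hb.symm h3a hda hdb
    have e2 := h.swap_inverts hu₂ hbc h2b hdb hdc
    have e1 := h.swap_inverts hu₁ hc h1c hdc hda
    calc g * d * g⁻¹ = u₁ * (u₂ * (u₃ * d * u₃⁻¹) * u₂⁻¹) * u₁⁻¹ := by rw [hg]; group
      _ = u₁ * (u₂ * d * u₂⁻¹)⁻¹ * u₁⁻¹ := by rw [e3]; group
      _ = d⁻¹ := by rw [e2, inv_inv, e1]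
  have hdodd := h.odd_order hb hd hdb
  have hd2 : d * d = 1 → d = 1 := fun e => orderOf_eq_one_iff.1
    (Nat.eq_one_of_dvd_coprimes (Nat.coprime_two_right.2 hdodd) dvd_rfl
      (orderOf_dvd_of_pow_eq_one (by rw [pow_two, e])))
  apply hd2
  rcases Nat.even_or_odd (orderOf g) with ⟨j, hj⟩ | ⟨j, hj⟩
  · -- a power of `g` is an involution of `Q`
    have hio : orderOf (g ^ (orderOf g / 2)) = 2 :=
      orderOf_pow_orderOf_div (orderOf_pos g).ne' ⟨j, by omega⟩
    have hgQ : g ∈ Q := h.mem_of_commute (h.involution_mem (pow_mem hgM _) hio) hio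
      ((Commute.refl g).pow_right _)
    have h1 : (d * d)⁻¹ ∈ Q := by
      have h2 : g * d * g⁻¹ * d⁻¹ ∈ Q := by
        rw [show g * d * g⁻¹ * d⁻¹ = g * (d * g⁻¹ * d⁻¹) by group]
        exact mul_mem hgQ (h.conj_mem d hd _ (inv_mem hgQ))
      rwa [hinv, ← mul_inv_rev] at h2
    exact inv_eq_one.1 (h.semiregular h1 hb
      (inv_mem (mul_mem (show d ∈ stabilizer G b from hdb) (show d ∈ stabilizer G b from hdb))))
  · have hc2 : Commute (g * g) d := by
      refine mul_inv_eq_iff_eq_mul.1 ?_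
      calc g * g * d * (g * g)⁻¹ = g * (g * d * g⁻¹) * g⁻¹ := by group
        _ = g * d⁻¹ * g⁻¹ := by rw [hinv]
        _ = (g * d * g⁻¹)⁻¹ := by group
        _ = d := by rw [hinv, inv_inv]
    have hgd : Commute g d := by
      have h4 : g = (g * g) ^ (j + 1) := by
        rw [← pow_two, ← pow_mul, show 2 * (j + 1) = orderOf g + 1 by omega, pow_succ,
          pow_orderOf_eq_one, one_mul]
      rw [h4]
      exact hc2.pow_left _
    rw [hgd.eq, mul_inv_cancel_right] at hinv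
    exact eq_inv_iff_mul_eq_one.1 hinv

theorem Cfg.exists_decomp {b : G ⧸ M} (hb : b ≠ base M) {g : G} (hg : g ∈ M) :
    ∃ d ∈ M ⊓ stabilizer G b, ∃ q ∈ Q, g = d * q := by
  obtain ⟨t, htM, ht⟩ := Involutions.StronglyEmbedded.exists_involution_mem h.stronglyEmbedded.2.1
  obtain ⟨d, hd, hdt⟩ := h.transitive_invs hb ht htM (t := g * t * g⁻¹) (by rw [orderOf_conj, ht])
    (mul_mem (mul_mem hg htM) (inv_mem hg))
  refine ⟨d, hd, d⁻¹ * g, h.mem_of_commute (h.involution_mem htM ht) ht ?_, by group⟩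
  show d⁻¹ * g * t = t * (d⁻¹ * g)
  calc d⁻¹ * g * t = d⁻¹ * (g * t * g⁻¹) * g := by group
    _ = _ := by rw [← hdt]; group

theorem Cfg.card_eq : Nat.card M = invs M * Nat.card Q := by
  obtain ⟨g, hg⟩ : ∃ g : G, g ∉ M := by
    by_contra hall
    push Not at hall
    exact h.ne_top (eq_top_iff.2 fun x _ => hall x)
  have hb : g • base M ≠ base M := fun e => hg (smul_base.1 e)
  rw [← h.card_stab hb, ← Nat.card_prod]
  refine (Nat.card_congr (Equiv.ofBijective (fun p : ↥(M ⊓ stabilizer G (g • base M)) × Q =>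
    (⟨(p.1 : G) * p.2, mul_mem p.1.2.1 (h.le p.2.2)⟩ : M)) ⟨fun p r hpr => ?_, fun x => ?_⟩)).symm
  · have h1 : (p.1 : G) * p.2 = r.1 * r.2 := congrArg Subtype.val hpr
    have h2 : (r.1 : G)⁻¹ * p.1 = r.2 * (p.2 : G)⁻¹ := by
      rw [eq_mul_inv_iff_mul_eq, mul_assoc, h1, inv_mul_cancel_left]
    have h3 : (r.1 : G)⁻¹ * p.1 = 1 := h.semiregular (h2 ▸ mul_mem r.2.2 (inv_mem p.2.2)) hb
      (show ((r.1 : G)⁻¹ * p.1) • g • base M = g • base M from
        (mul_mem (inv_mem r.1.2) p.1.2 : _ ∈ M ⊓ stabilizer G (g • base M)).2)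
    refine Prod.ext (Subtype.ext (inv_mul_eq_one.1 h3).symm) (Subtype.ext ?_)
    rw [h3] at h2
    exact (mul_inv_eq_one.1 h2.symm).symm
  · obtain ⟨d, hd, q, hq, hx⟩ := h.exists_decomp hb x.2
    exact ⟨(⟨d, hd⟩, ⟨q, hq⟩), Subtype.ext hx.symm⟩

/-- The kernel is transitive off the base point. -/
theorem Cfg.exists_kernel_smul {b c : G ⧸ M} (hb : b ≠ base M) (hc : c ≠ base M) :
    ∃ q ∈ Q, q • b = c := by
  classical
  haveI := Fintype.ofFinite (G ⧸ M)
  haveI := Fintype.ofFinite G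
  -- the non-identity elements of the two-point stabilisers lie outside `Q`
  let f : (Σ x : {x : G ⧸ M // x ≠ base M}, {d : ↥(M ⊓ stabilizer G (x : G ⧸ M)) // d ≠ 1}) →
      {g : M // g ∉ Q.subgroupOf M} := fun p => ⟨⟨(p.2.1 : G), p.2.1.2.1⟩, fun hQ =>
    p.2.2 (Subtype.ext (h.semiregular hQ p.1.2 p.2.1.2.2))⟩
  have hf : Function.Injective f := by
    rintro ⟨⟨x, hx⟩, ⟨d, hd⟩, hd1⟩ ⟨⟨y, hy⟩, ⟨e, he⟩, he1⟩ heq
    have hde : d = e := congrArg (fun g : {g : M // g ∉ Q.subgroupOf M} => ((g : M) : G)) heq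
    subst hde
    have hxy : x = y := by
      by_contra hxy
      exact hd1 (Subtype.ext (h.three_trivial hd.1 hx hy hxy hd.2 he.2))
    subst hxy
    rfl
  have hle := Nat.card_le_card_of_injective f hf
  have hD : ∀ x : {x : G ⧸ M // x ≠ base M},
      Nat.card {d : ↥(M ⊓ stabilizer G (x : G ⧸ M)) // d ≠ 1} = invs M - 1 := fun x => by
    rw [Nat.card_eq_fintype_card, Fintype.card_subtype_compl, Fintype.card_subtype_eq,
      ← Nat.card_eq_fintype_card, h.card_stab x.2]
  have hcompl : Nat.card {g : M // g ∉ Q.subgroupOf M} = Nat.card M - Nat.card Q := by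
    rw [← Nat.card_congr (Subgroup.subgroupOfEquivOfLe h.le).toEquiv, Nat.card_eq_fintype_card,
      Fintype.card_subtype_compl, ← Nat.card_eq_fintype_card, ← Nat.card_eq_fintype_card]
  rw [Nat.card_sigma, Finset.sum_congr rfl fun x _ => hD x, Finset.sum_const, smul_eq_mul,
    Finset.card_univ, ← Nat.card_eq_fintype_card, hcompl, h.card_eq, ← Nat.sub_one_mul,
    mul_comm (invs M - 1)] at hle
  have hN : Nat.card {x : G ⧸ M // x ≠ base M} ≤ Nat.card Q :=
    Nat.le_of_mul_le_mul_right hle (by have := h.two_le_invs; omega)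
  let ψ : Q → {x : G ⧸ M // x ≠ base M} := fun q => ⟨(q : G) • b, fun e =>
    hb (smul_left_cancel (q : G) (e.trans (smul_base.2 (h.le q.2)).symm))⟩
  have hψ : Function.Injective ψ := fun q r hqr => by
    have h1 : (q : G) • b = (r : G) • b := congrArg Subtype.val hqr
    have h2 := h.semiregular (mul_mem (inv_mem r.2) q.2) hb
      (by rw [mul_smul, h1, inv_smul_smul])
    exact Subtype.ext (inv_mul_eq_one.1 h2).symm
  obtain ⟨q, hq⟩ := ((Nat.bijective_iff_injective_and_card ψ).2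
    ⟨hψ, le_antisymm (Nat.card_le_card_of_injective ψ hψ) hN⟩).2 ⟨c, hc⟩
  exact ⟨q, q.2, congrArg Subtype.val hq⟩

theorem Cfg.faithful : FaithfulSMul G (G ⧸ M) := by
  refine ⟨fun {g g'} hgg => ?_⟩
  have hbot : M.normalCore = ⊥ := by
    obtain ⟨c, hc⟩ : ∃ c : G, c ∉ M := by
      by_contra hall
      push Not at hall
      exact h.ne_top (eq_top_iff.2 fun x _ => hall x)
    have hdis : ∀ x ∈ M.normalCore, x ∈ Q → x = 1 := fun x hx hxQ => h.fixed hxQ hc
      (M.normalCore_le (by simpa using M.normalCore_normal.conj_mem x hx c⁻¹))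
    refine (Subgroup.eq_bot_iff_forall _).2 fun x hx => hdis x hx ?_
    obtain ⟨t, htM, ht⟩ := Involutions.StronglyEmbedded.exists_involution_mem h.stronglyEmbedded.2.1
    have htQ := h.involution_mem htM ht
    refine h.mem_of_commute htQ ht (mul_inv_eq_iff_eq_mul.1 (mul_inv_eq_one.1 (hdis _ ?_
      (mul_mem (h.conj_mem x (M.normalCore_le hx) t htQ) (inv_mem htQ)))))
    rw [show x * t * x⁻¹ * t⁻¹ = x * (t * x⁻¹ * t⁻¹) by group]
    exact mul_mem hx (M.normalCore_normal.conj_mem _ (inv_mem hx) t)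
  have h1 : g'⁻¹ * g ∈ M.normalCore := fun c => smul_base.1 (by
    rw [mul_smul, mul_smul, mul_smul, hgg, inv_smul_smul, smul_inv_smul])
  rw [hbot, Subgroup.mem_bot, inv_mul_eq_one] at h1
  exact h1.symm

theorem Cfg.setup : ∃ u : G, Cfsg.IsRankOneSetup G (G ⧸ M) (base M) u Q := by
  obtain ⟨g, hg⟩ : ∃ g : G, g ∉ M := by
    by_contra hall
    push Not at hall
    exact h.ne_top (eq_top_iff.2 fun x _ => hall x)
  have hb : g • base M ≠ base M := fun e => hg (smul_base.1 e)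
  obtain ⟨u, hu, hua, -⟩ := h.exists_swapper hb.symm
  refine ⟨u, ?_⟩
  have hmap : ∀ {x y : G ⧸ M}, x ≠ y → ∃ k : G, k • x = base M ∧ k • y = g • base M := by
    intro x y hxy
    obtain ⟨k, rfl⟩ := exists_smul_base x
    obtain ⟨q, hq, hqy⟩ := h.exists_kernel_smul
      (show k⁻¹ • y ≠ base M from fun e => hxy (by rw [← e, smul_inv_smul])) hb
    exact ⟨q * k⁻¹, by rw [mul_smul, inv_smul_smul, smul_base.2 (h.le hq)], by rw [mul_smul, hqy]⟩
  have hbu : (stabilizer G (u • base M)) = stabilizer G (g • base M) := by rw [hua]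
  refine
    { two_transitive := is_two_pretransitive_iff.2 fun {x y x' y'} hxy hxy' => ?_
      mul_self := inv_sq_one hu
      ne_one := ne_one hu
      not_mem := fun e => hb (hua.symm.trans e)
      le := fun x hx => smul_base.2 (h.le hx)
      conj_mem := fun k hk x hx => h.conj_mem k (smul_base.1 hk) x hx
      inf_eq_bot := (Subgroup.eq_bot_iff_forall _).2 fun x hx =>
        h.semiregular hx.1 (fun e => hb (hua.symm.trans e)) hx.2
      sup_eq := ?_
      even_card := even_iff_two_dvd.2 h.even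
      odd_card := ?_ }
  · obtain ⟨k, h1, h2⟩ := hmap hxy
    obtain ⟨l, h3, h4⟩ := hmap hxy'
    exact ⟨l⁻¹ * k, by rw [mul_smul, h1, ← h3, inv_smul_smul], by rw [mul_smul, h2, ← h4, inv_smul_smul]⟩
  · refine le_antisymm (sup_le (fun x hx => smul_base.2 (h.le hx)) inf_le_left) fun k hk => ?_
    obtain ⟨d, hd, q, hq, rfl⟩ := h.exists_decomp hb (smul_base.1 hk)
    exact mul_mem (Subgroup.mem_sup_right ⟨smul_base.2 hd.1, hbu ▸ hd.2⟩) (Subgroup.mem_sup_left hq)
  · rw [hbu, stab_base]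
    exact h.odd_card_stab hb

/-- A normal subgroup of odd index is the whole group. -/
theorem Cfg.eq_top_of_odd_index (hQ : IsPGroup 2 Q) {L : Subgroup G} (hn : L.Normal)
    (ho : Odd L.index) : L = ⊤ := by
  haveI := hn
  have hmem : ∀ {x : G} {k : ℕ}, x ^ 2 ^ k = 1 → x ∈ L := fun {x k} hx => by
    rw [← QuotientGroup.eq_one_iff, ← orderOf_eq_one_iff]
    refine Nat.eq_one_of_dvd_coprimes (a := 2 ^ k) (b := L.index)
      ((Nat.coprime_two_left.2 ho).pow_left k) (orderOf_dvd_of_pow_eq_one ?_) ?_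
    · rw [← QuotientGroup.mk_pow, hx, QuotientGroup.mk_one]
    · rw [Subgroup.index_eq_card]; exact orderOf_dvd_natCard _
  have hinvol : ∀ {i : G}, i * i = 1 → i ∈ L := fun hi => hmem (k := 1) (by rw [pow_one, pow_two, hi])
  have hQL : Q ≤ L := fun x hx => by
    obtain ⟨k, hk⟩ := hQ ⟨x, hx⟩
    exact hmem (by simpa using congrArg Subtype.val hk)
  have hM : M ≤ L := fun x hx => by
    obtain ⟨g, hg⟩ : ∃ g : G, g ∉ M := by
      by_contra hall
      push Not at hall
      exact h.ne_top (eq_top_iff.2 fun x _ => hall x)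
    have hb : g • base M ≠ base M := fun e => hg (smul_base.1 e)
    obtain ⟨d, hd, q, hq, rfl⟩ := h.exists_decomp hb hx
    refine mul_mem ?_ (hQL hq)
    obtain ⟨u, hu, hua, -⟩ := h.exists_swapper hb.symm
    have e := h.swap_inverts hu hb.symm hua (smul_base.2 hd.1) hd.2
    rw [inv_eq hu] at e
    have h1 : u * d ∈ L := hinvol (by
      calc u * d * (u * d) = (u * d * u) * d := by group
        _ = 1 := by rw [e, inv_mul_cancel])
    have h2 := mul_mem (hinvol (inv_sq_one hu)) h1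
    rwa [← mul_assoc, inv_sq_one hu, one_mul] at h2
  refine eq_top_iff.2 fun x _ => ?_
  by_cases hx : x • base M = base M
  · exact hM (smul_base.1 hx)
  · obtain ⟨u, hu, hua, hub⟩ := h.exists_swapper (Ne.symm hx)
    have h2 := mul_mem (hinvol (inv_sq_one hu)) (hM (smul_base.1 (show (u * x) • base M = base M by
      rw [mul_smul, hub])))
    rwa [← mul_assoc, inv_sq_one hu, one_mul] at h2

theorem Cfg.classify :
    (∃ (K : Type) (_ : Field K) (_ : Fintype K), 4 ≤ Fintype.card K ∧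
      Nonempty (G ≃* Matrix.ProjectiveSpecialLinearGroup (Fin 2) K)) ∨ Cfsg.Lie.IsoSuzuki G := by
  classical
  haveI := h.faithful
  obtain ⟨t, hS⟩ := h.setup
  have h2 : ∃ x y : G, x ≠ 1 ∧ y ≠ 1 ∧ x ≠ y ∧ x * x = 1 ∧ y * y = 1 ∧ x * y = y * x := by
    obtain ⟨x, y, h1, h2, h3, h4, h5, h6, -⟩ := h.two
    exact ⟨x, y, h1, h2, h3, h4, h5, h6⟩
  have hQ := Involutions.RankOne.Char.isPGroup_two hS h2
  haveI : Fact (Nat.Prime 2) := ⟨Nat.prime_two⟩
  obtain ⟨E, g, n, F⟩ := Involutions.RankOne.Char.exists_frame hS h2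
  obtain ⟨S, O, sp⟩ := Involutions.RankOne.Char.exists_split hS h2 F
  have hO : O = ⊥ := by
    obtain ⟨k, hk⟩ := IsPGroup.iff_card.1 (hQ.to_le sp.le_O)
    refine Subgroup.card_eq_one.1 ?_
    rcases k with _ | k
    · simpa using hk
    · have := sp.odd_O
      rw [hk, pow_succ] at this
      exact absurd this (by simp [Nat.not_odd_iff_even, Nat.even_mul])
  have hSQ : S = Q := le_antisymm sp.le_S fun q hq => by
    obtain ⟨x, hx, y, hy, rfl⟩ := sp.exists_mul q hq
    rw [hO, Subgroup.mem_bot] at hy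
    rw [hy, mul_one]; exact hx
  subst hSQ
  have hiso : ∀ {L : Subgroup G}, L.Normal → Odd L.index → Nonempty (G ≃* L) := fun hn ho =>
    ⟨Subgroup.topEquiv.symm.trans (MulEquiv.subgroupCongr (h.eq_top_of_odd_index hQ hn ho).symm)⟩
  rcases sp.abelian_or_suzuki hS h2 with hA | hP
  · have hcomm : ∀ x ∈ S, ∀ y ∈ S, x * y = y * x := fun x hx y hy =>
      congrArg Subtype.val (hA.is_comm.comm (⟨x, hx⟩ : S) ⟨y, hy⟩)
    obtain ⟨L, h1, h3, K, i1, i2, ⟨k, hk, hK⟩, ⟨f⟩⟩ :=
      Involutions.RankOne.exists_pslTwo hS h2 (Cfsg.Agent.S0205.result hS.odd_card)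
        (Involutions.RankOne.Char.exponent_two hS h2 hQ hcomm)
    obtain ⟨e⟩ := hiso h1 h3
    exact Or.inl ⟨K, i1, i2, hK ▸ le_trans (le_of_eq (by norm_num : 4 = 2 ^ 2))
      (Nat.pow_le_pow_right (by norm_num) hk), ⟨e.trans f⟩⟩
  · have hc := sp.card_center hS F hP
    have hcard := (Subgroup.center S).card_mul_index
    rw [hc] at hcard
    rcases sp.index_center hS F hP with e | e <;> rw [e] at hcard
    · obtain ⟨L, h1, h3, K, i1, i2, m, hm, hK, ⟨f⟩⟩ :=
        Involutions.RankOne.Sz.exists_suzuki hS h2 hQ hP (by rw [← hcard, hc, sq])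
      obtain ⟨e⟩ := hiso h1 h3
      exact Or.inr ⟨K, i1, i2, m, hm, hK, ⟨e.trans f⟩⟩
    · -- no unitary group: `W` would centralise an involution of the kernel
      exfalso
      have hU : Involutions.RankOne.U3.Setting G (G ⧸ M) (base M) t S n :=
        ⟨hS, h2, hQ, hP, F.two_le, hc, by rw [← hcard]; ring⟩
      refine Involutions.RankOne.U3.w_ne_bot hU ((Subgroup.eq_bot_iff_forall _).2 fun w hw => ?_)
      obtain ⟨s, hs, hs1⟩ := Involutions.RankOne.U3.exists_involution hU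
      have hs2 : orderOf s = 2 := orderOf_two_iff.2 ⟨Involutions.RankOne.U3.Zc_sq hU hs, hs1⟩
      have hwD := Involutions.RankOne.U3.W_le hw
      exact h.semiregular
        (h.mem_of_commute (Involutions.RankOne.U3.Zc_le hs) hs2
          (Involutions.RankOne.U3.W_Zc hU hw hs).symm)
        (fun e => hS.not_mem e) hwD.2

/-- An abelian kernel has exponent two. -/
theorem Cfg.exponent_two (hcomm : ∀ x ∈ Q, ∀ y ∈ Q, x * y = y * x) : ∀ x ∈ Q, x * x = 1 := by
  classical
  haveI := h.faithful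
  obtain ⟨t, hS⟩ := h.setup
  have h2 : ∃ x y : G, x ≠ 1 ∧ y ≠ 1 ∧ x ≠ y ∧ x * x = 1 ∧ y * y = 1 ∧ x * y = y * x := by
    obtain ⟨x, y, h1, h2, h3, h4, h5, h6, -⟩ := h.two
    exact ⟨x, y, h1, h2, h3, h4, h5, h6⟩
  exact Involutions.RankOne.Char.exponent_two hS h2 (Involutions.RankOne.Char.isPGroup_two hS h2) hcomm

end Cfsg.Agent.Partition.TI
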