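import Mathlib
import Cfsg.Prelude.Def_Solvable
import Cfsg.Agent.S0205
import Cfsg.Agent.Lib.Involutions.BaerSuzuki

/-!
# Fixed-point-free actions used for partitions

`sylow_normal`: if the elements of order prime to `p` act without fixed points on an abelian group
of exponent `p`, every element has order prime to `p` or dividing `p`, and the norm of every element
of order `p` vanishes, then a Sylow `p`-subgroup is normal.
-/

set_option autoImplicit false
set_option linter.unusedSectionVars false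
set_option linter.style.haveILetI false

open scoped Pointwise commutatorElement

namespace Cfsg.Agent.Partition

/-- Schur-Zassenhaus gives a Frobenius complement when no element of order prime to the normal
subgroup centralises a non-identity element of it. -/
theorem exists_isFrobeniusComplement {G : Type*} [Group G] [Finite G] {K : Subgroup G} [K.Normal]
    (hco : (Nat.card K).Coprime K.index) (hne : K ≠ ⊥) (htop : K ≠ ⊤)
    (hfix : ∀ k ∈ K, k ≠ 1 → ∀ ρ : G, ρ ∉ K → (orderOf ρ).Coprime (Nat.card K) → ¬ Commute k ρ) :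
    ∃ H : Subgroup G, Cfsg.IsFrobeniusComplement H := by
  obtain ⟨R, hR⟩ := Subgroup.exists_right_complement'_of_coprime hco
  have hdis : ∀ {x : G}, x ∈ K → x ∈ R → x = 1 := fun hx hx' =>
    Subgroup.mem_bot.1 (hR.disjoint.eq_bot ▸ Subgroup.mem_inf.2 ⟨hx, hx'⟩)
  have hcard := hR.card_mul_card
  have hRidx : Nat.card R = K.index := by
    rw [← K.card_mul_index] at hcard
    exact Nat.eq_of_mul_eq_mul_left Nat.card_pos hcard
  refine ⟨R, fun h => htop ?_, fun h => hne ?_, fun h hh => (Subgroup.eq_bot_iff_forall _).2 fun a ha => ?_⟩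
  · rw [h, Subgroup.card_bot] at hRidx
    exact Subgroup.index_eq_one.1 hRidx.symm
  · exact (Subgroup.eq_bot_iff_forall K).2 fun k hk => hdis hk (h ▸ Subgroup.mem_top k)
  by_contra ha1
  obtain ⟨haR, ha2⟩ := ha
  obtain ⟨b, hb, rfl⟩ := (Subgroup.mem_smul_pointwise_iff_exists _ _ _).1 ha2
  simp only [MulAut.smul_def, MulAut.conj_apply] at haR ha1
  obtain ⟨k, hk, r, hr, rfl⟩ : ∃ k ∈ K, ∃ r ∈ R, k * r = h := by
    have h1 : h ∈ (↑(K ⊔ R) : Set G) := by rw [hR.sup_eq_top]; exact Subgroup.mem_top h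
    rw [Subgroup.normal_mul] at h1
    exact Set.mem_mul.1 h1
  set c := r * b * r⁻¹ with hc
  have hcR : c ∈ R := mul_mem (mul_mem hr hb) (inv_mem hr)
  have ha : k * r * b * (k * r)⁻¹ = k * c * k⁻¹ := by rw [hc]; group
  rw [ha] at haR ha1
  have hk1 : k ≠ 1 := fun e => hh (by rw [e, one_mul]; exact hr)
  have hc1 : c ≠ 1 := fun e => ha1 (by rw [e]; group)
  have h1 : k * c * k⁻¹ * c⁻¹ = 1 := hdis (by
    rw [show k * c * k⁻¹ * c⁻¹ = k * (c * k⁻¹ * c⁻¹) by group]
    exact mul_mem hk (Subgroup.Normal.conj_mem inferInstance _ (inv_mem hk) c))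
    (mul_mem haR (inv_mem hcR))
  rw [mul_inv_eq_one, mul_inv_eq_iff_eq_mul] at h1
  refine hfix k hk hk1 c (fun e => hc1 (hdis e hcR)) ?_ h1
  exact hco.symm.coprime_dvd_left (hRidx ▸ Subgroup.orderOf_dvd_natCard R hcR)

variable {H W : Type*} [Group H] [Finite H] [CommGroup W] [Nontrivial W] {p : ℕ} [hp : Fact p.Prime]
  {φ : H →* MulAut W}

/-- No element of order `p` normalises a nontrivial subgroup of order prime to `p`. -/
theorem no_normalized (hexp : ∀ w : W, w ^ p = 1)
    (h1 : ∀ h : H, h ≠ 1 → (orderOf h).Coprime p → ∀ w : W, φ h w = w → w = 1)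
    (h2 : ∀ h : H, h ^ p = 1 ∨ (orderOf h).Coprime p)
    (h4 : ∀ y : H, y ^ p = 1 → ∀ w : W, ∏ i ∈ Finset.range p, φ (y ^ i) w = 1)
    {y : H} (hy : y ^ p = 1) (hy1 : y ≠ 1) {R : Subgroup H} (hR : R ≠ ⊥)
    (hRp : (Nat.card R).Coprime p) (hnorm : ∀ r ∈ R, y * r * y⁻¹ ∈ R) : False := by
  classical
  haveI := Fintype.ofFinite R
  have hyo : orderOf y = p := orderOf_eq_prime hy hy1
  have hcen : ∀ c ∈ R, Commute c y → c = 1 := by
    intro c hc hcy
    have hco : (orderOf c).Coprime p := hRp.coprime_dvd_left (Subgroup.orderOf_dvd_natCard R hc)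
    rcases h2 (y * c) with h | h
    · rw [hcy.symm.mul_pow, hy, one_mul] at h
      exact orderOf_eq_one_iff.1 (Nat.eq_one_of_dvd_coprimes hco dvd_rfl (orderOf_dvd_of_pow_eq_one h))
    · exfalso
      have h5 : (y * c) ^ orderOf c = y ^ orderOf c := by
        rw [hcy.symm.mul_pow, pow_orderOf_eq_one, mul_one]
      have h6 : y ^ orderOf c = 1 := by
        refine orderOf_eq_one_iff.1 (Nat.eq_one_of_dvd_coprimes h (h5 ▸ orderOf_pow_dvd (orderOf c))
          (orderOf_dvd_of_pow_eq_one ?_))
        rw [← pow_mul, mul_comm, pow_mul, hy, one_pow]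
      rw [← orderOf_dvd_iff_pow_eq_one, hyo] at h6
      exact hp.out.one_lt.ne' (Nat.eq_one_of_dvd_coprimes hco h6 dvd_rfl)
  have hnormi : ∀ i : ℕ, ∀ r ∈ R, y ^ i * r * (y ^ i)⁻¹ ∈ R := by
    intro i
    induction i with
    | zero => intro r hr; simpa using hr
    | succ i ih =>
      intro r hr
      have := hnorm _ (ih r hr)
      rw [pow_succ']
      simpa [mul_assoc] using this
  obtain ⟨r₀, hr₀, hr₀1⟩ := (Subgroup.bot_or_exists_ne_one R).resolve_left hR
  have hfixed : ∀ v : W, ∏ r : R, φ (r : H) v = 1 := by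
    intro v
    refine h1 r₀ hr₀1 (hRp.coprime_dvd_left (Subgroup.orderOf_dvd_natCard R hr₀)) _ ?_
    rw [map_prod]
    exact Fintype.prod_equiv (Equiv.mulLeft ⟨r₀, hr₀⟩) _ _ fun r => by
      simp [map_mul, MulAut.mul_apply]
  have hsum : ∀ w : W, ∀ i ∈ Finset.range p, i ≠ 0 →
      ∏ r : R, φ ((r : H) * y ^ i * (r : H)⁻¹) w = 1 := by
    intro w i hi hi0
    let e : R → R := fun r => ⟨(r : H) * (y ^ i * (r : H)⁻¹ * (y ^ i)⁻¹),
      mul_mem r.2 (hnormi i _ (inv_mem r.2))⟩
    have he : Function.Injective e := by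
      intro r s hrs
      have h5 : (r : H) * (y ^ i * (r : H)⁻¹ * (y ^ i)⁻¹) = s * (y ^ i * (s : H)⁻¹ * (y ^ i)⁻¹) :=
        congrArg Subtype.val hrs
      have hc : Commute ((s : H)⁻¹ * r) (y ^ i) := by
        show (s : H)⁻¹ * r * y ^ i = y ^ i * ((s : H)⁻¹ * r)
        calc (s : H)⁻¹ * r * y ^ i
            = (s : H)⁻¹ * ((r : H) * (y ^ i * (r : H)⁻¹ * (y ^ i)⁻¹)) * (y ^ i * r) := by group
          _ = _ := by rw [h5]; group
      have hcop : i.Coprime p := ((hp.out.coprime_iff_not_dvd).2 fun hd =>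
        absurd (Nat.le_of_dvd (Nat.pos_of_ne_zero hi0) hd) (not_le.2 (Finset.mem_range.1 hi))).symm
      obtain ⟨m, hm⟩ := exists_pow_eq_self_of_coprime (x := y) (n := i) (by rwa [hyo])
      have hc' : Commute ((s : H)⁻¹ * r) y := hm ▸ hc.pow_right m
      have h6 := hcen _ (mul_mem (inv_mem s.2) r.2) hc'
      exact Subtype.ext (inv_mul_eq_one.1 h6).symm
    have hbij : Function.Bijective e := Finite.injective_iff_bijective.1 he
    calc ∏ r : R, φ ((r : H) * y ^ i * (r : H)⁻¹) w
        = ∏ r : R, φ ((e r : R) : H) (φ (y ^ i) w) := by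
          refine Finset.prod_congr rfl fun r _ => ?_
          rw [← MulAut.mul_apply, ← map_mul]
          simp [e, mul_assoc]
      _ = ∏ r : R, φ (r : H) (φ (y ^ i) w) :=
          hbij.prod_comp (fun r : R => φ (r : H) (φ (y ^ i) w))
      _ = 1 := hfixed _
  obtain ⟨w, hw⟩ := exists_ne (1 : W)
  have htot : ∏ i ∈ Finset.range p, ∏ r : R, φ ((r : H) * y ^ i * (r : H)⁻¹) w = 1 := by
    rw [Finset.prod_comm]
    refine Finset.prod_eq_one fun r _ => ?_
    simp only [← conj_pow]
    exact h4 _ (by rw [conj_pow, hy, mul_one, mul_inv_cancel]) w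
  rw [Finset.prod_eq_single_of_mem 0 (Finset.mem_range.2 hp.out.pos) (hsum w)] at htot
  simp only [pow_zero, mul_one, mul_inv_cancel, map_one, MulAut.one_apply, Finset.prod_const,
    Finset.card_univ, ← Nat.card_eq_fintype_card] at htot
  exact hw (orderOf_eq_one_iff.1 (Nat.eq_one_of_dvd_coprimes hRp (orderOf_dvd_of_pow_eq_one htot)
    (orderOf_dvd_of_pow_eq_one (hexp w))))

theorem normal_le_sylow {N : Subgroup H} [N.Normal] (hN : IsPGroup p N) (P : Sylow p H) :
    N ≤ (P : Subgroup H) := by
  have h := P.is_maximal' (P.2.to_sup_of_normal_right hN) le_sup_left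
  exact h ▸ le_sup_right

/-- The Sylow `p`-subgroups are normal. -/
theorem sylow_normal (hexp : ∀ w : W, w ^ p = 1)
    (h1 : ∀ h : H, h ≠ 1 → (orderOf h).Coprime p → ∀ w : W, φ h w = w → w = 1)
    (h2 : ∀ h : H, h ^ p = 1 ∨ (orderOf h).Coprime p)
    (h4 : ∀ y : H, y ^ p = 1 → ∀ w : W, ∏ i ∈ Finset.range p, φ (y ^ i) w = 1)
    (P : Sylow p H) : (P : Subgroup H).Normal := by
  classical
  obtain ⟨w₀, hw₀⟩ := exists_ne (1 : W)
  suffices key : ∀ y : H, y ^ p = 1 → y ≠ 1 → ∃ N : Subgroup H, N.Normal ∧ IsPGroup p N ∧ y ∈ N by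
    refine ⟨fun x hx g => ?_⟩
    obtain ⟨k, hk⟩ := IsPGroup.iff_orderOf.1 P.2 ⟨x, hx⟩
    rw [Subgroup.orderOf_mk] at hk
    have hxp : x ^ p = 1 := by
      rcases h2 x with h | h
      · exact h
      · rw [hk] at h
        rcases k with _ | k
        · rw [pow_zero, orderOf_eq_one_iff] at hk
          rw [hk, one_pow]
        · exact absurd (Nat.eq_one_of_dvd_coprimes h (dvd_pow_self p k.succ_ne_zero) dvd_rfl)
            hp.out.one_lt.ne'
    by_cases hg : g * x * g⁻¹ = 1
    · rw [hg]; exact one_mem _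
    obtain ⟨N, hN, hNp, hmem⟩ := key _ (by rw [conj_pow, hxp, mul_one, mul_inv_cancel]) hg
    exact normal_le_sylow hNp P hmem
  intro y hy hy1
  have hyo : orderOf y = p := orderOf_eq_prime hy hy1
  rcases hp.out.eq_two_or_odd' with h | hodd
  · -- Baer-Suzuki
    subst h
    by_contra hno
    push Not at hno
    obtain ⟨h, hh1, hhodd, hinv⟩ := Involutions.BaerSuzuki.exists_inverted_odd y hyo
      fun N hN hN2 => hno N hN hN2
    refine no_normalized hexp h1 h2 h4 hy hy1 (R := Subgroup.zpowers h) ?_ ?_ ?_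
    · simpa using hh1
    · rw [Nat.card_zpowers]
      exact Nat.coprime_two_right.2 hhodd
    · intro r hr
      obtain ⟨i, rfl⟩ := Subgroup.mem_zpowers_iff.1 hr
      rw [← conj_zpow, hinv]
      exact zpow_mem (inv_mem (Subgroup.mem_zpowers h)) i
  · by_cases heven : Even (Nat.card H)
    · -- an involution inverts the module
      haveI : Fact (Nat.Prime 2) := ⟨Nat.prime_two⟩
      obtain ⟨τ, hτ⟩ := exists_prime_orderOf_dvd_card' (G := H) 2 heven.two_dvd
      have hτ1 : τ ≠ 1 := fun e => by rw [e, orderOf_one] at hτ; exact absurd hτ (by norm_num)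
      have hcop : (2 : ℕ).Coprime p := Nat.coprime_two_left.2 hodd
      have hinv : ∀ w : W, φ τ w = w⁻¹ := by
        intro w
        refine eq_inv_of_mul_eq_one_left (h1 τ hτ1 (hτ ▸ hcop) _ ?_)
        rw [map_mul, ← MulAut.mul_apply, ← map_mul, ← pow_two, ← hτ, pow_orderOf_eq_one, map_one,
          MulAut.one_apply, mul_comm]
      have hcomm : ∀ h : H, Commute (φ h) (φ τ) := fun h => MulEquiv.ext fun w => by
        rw [MulAut.mul_apply, MulAut.mul_apply, hinv, hinv, map_inv]
      have hτne : φ τ ≠ 1 := by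
        intro e
        exact hw₀ (h1 τ hτ1 (hτ ▸ hcop) w₀ (by rw [e]; rfl))
      refine ⟨φ.ker, inferInstance, fun x => ⟨1, ?_⟩, ?_⟩
      · rw [pow_one]
        rcases h2 x with h | h
        · exact Subtype.ext (by simpa using h)
        · by_contra hx
          exact hw₀ (h1 x (fun e => hx (by rw [show x = 1 from Subtype.ext e, one_pow])) h w₀
            (by rw [MonoidHom.mem_ker.1 x.2]; rfl))
      · rw [MonoidHom.mem_ker]
        have hτ2 : φ τ ^ 2 = 1 := by rw [← map_pow, ← hτ, pow_orderOf_eq_one, map_one]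
        have hyp : φ y ^ p = 1 := by rw [← map_pow, hy, map_one]
        have hpow : φ ((y * τ) ^ p) = φ τ := by
          obtain ⟨m, hm⟩ := hodd
          rw [map_pow, map_mul, (hcomm y).mul_pow, hyp, one_mul, hm, pow_succ, pow_mul, hτ2, one_pow,
            one_mul]
        have hyτ : (orderOf (y * τ)).Coprime p := (h2 (y * τ)).resolve_left fun e =>
          hτne (by rw [← hpow, e, map_one])
        have h3 : φ y ^ (2 * orderOf (y * τ)) = 1 := by
          have := congrArg (fun z => φ z ^ 2) (pow_orderOf_eq_one (y * τ))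
          simp only [map_pow, map_mul, map_one, one_pow, ← pow_mul] at this
          rw [(hcomm y).mul_pow] at this
          rw [mul_comm 2]
          rwa [mul_comm (orderOf (y * τ)) 2, pow_mul (φ τ), hτ2, one_pow, mul_one,
            mul_comm 2] at this
        exact orderOf_eq_one_iff.1 (Nat.eq_one_of_dvd_coprimes (Nat.Coprime.mul_left hcop hyτ)
          (orderOf_dvd_of_pow_eq_one h3) (orderOf_dvd_of_pow_eq_one hyp))
    · -- the odd order case
      haveI : Group.IsSolvable H := Cfsg.Agent.S0205.result (Nat.not_even_iff_odd.1 heven)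
      set K := (P : Subgroup H).normalCore with hK
      by_cases hyK : y ∈ K
      · exact ⟨K, inferInstance, P.2.to_le (Subgroup.normalCore_le _), hyK⟩
      exfalso
      set f := QuotientGroup.mk' K with hf
      have hfy : f y ≠ 1 := fun e => hyK ((QuotientGroup.eq_one_iff y).1 e)
      have hKp : IsPGroup p K := P.2.to_le (Subgroup.normalCore_le _)
      have hOp : ∀ M : Subgroup (H ⧸ K), M.Normal → IsPGroup p M → M = ⊥ := by
        intro M hM hMp
        have h5 : IsPGroup p (M.comap f) :=
          hMp.comap_of_ker_isPGroup f (by rw [hf, QuotientGroup.ker_mk']; exact hKp)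
        have h6 : M.comap f ≤ K := Subgroup.normal_le_normalCore.2 (normal_le_sylow h5 P)
        refine (Subgroup.eq_bot_iff_forall _).2 fun m hm => ?_
        obtain ⟨x, rfl⟩ := QuotientGroup.mk'_surjective K m
        exact (QuotientGroup.eq_one_iff x).2 (h6 hm)
      haveI : Nontrivial (H ⧸ K) := ⟨⟨f y, 1, hfy⟩⟩
      haveI : Group.IsSolvable (H ⧸ K) :=
        Group.isSolvable_of_surjective (f := f) (QuotientGroup.mk'_surjective K)
      obtain ⟨A, hAn, hAne, hAab⟩ : ∃ A : Subgroup (H ⧸ K), A.Normal ∧ A ≠ ⊥ ∧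
          ∀ a ∈ A, ∀ b ∈ A, a * b = b * a := by
        obtain ⟨n, hn⟩ := (Group.isSolvable_def (H ⧸ K)).1 inferInstance
        have hex : ∃ n, derivedSeries (H ⧸ K) n = ⊥ := ⟨n, hn⟩
        have h0 : Nat.find hex ≠ 0 := by
          intro e
          have := Nat.find_spec hex
          rw [e, derivedSeries_zero] at this
          exact bot_ne_top this.symm
        refine ⟨derivedSeries (H ⧸ K) (Nat.find hex - 1), derivedSeries_normal _ _,
          Nat.find_min hex (by omega), fun a ha b hb => ?_⟩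
        have := Nat.find_spec hex
        rw [show Nat.find hex = Nat.find hex - 1 + 1 by omega, derivedSeries_succ] at this
        exact commutatorElement_eq_one_iff_mul_comm.1
          (Subgroup.mem_bot.1 (this ▸ Subgroup.commutator_mem_commutator ha hb))
      haveI := hAn
      -- a Sylow subgroup of `A` for another prime
      haveI : Nontrivial A := (Subgroup.nontrivial_iff_ne_bot A).2 hAne
      obtain ⟨q, hq, hqd⟩ := Nat.exists_prime_and_dvd (Finite.one_lt_card (α := A)).ne'
      haveI := Fact.mk hq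
      haveI : IsMulCommutative A := ⟨⟨fun a b => Subtype.ext (hAab a a.2 b b.2)⟩⟩
      obtain ⟨S⟩ : Nonempty (Sylow q A) := inferInstance
      haveI : (S : Subgroup A).Characteristic := S.characteristic_of_normal inferInstance
      set B := (S : Subgroup A).map A.subtype with hB
      haveI : B.Normal := ConjAct.normal_of_characteristic_of_normal
      have hBne : B ≠ ⊥ := by
        rw [hB, Ne, Subgroup.map_eq_bot_iff_of_injective _ A.subtype_injective]
        exact S.ne_bot_of_dvd_card hqd
      have hBq : IsPGroup q B := S.2.map _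
      have hqp : q ≠ p := fun e => hBne (hOp B inferInstance (e ▸ hBq))
      set L := B.comap f with hL
      obtain ⟨Q⟩ : Nonempty (Sylow q L) := inferInstance
      have hfrat := Sylow.normalizer_sup_eq_top Q
      set Q' := (Q : Subgroup L).map L.subtype with hQ'
      obtain ⟨n, hn, l, hl, hnl⟩ : ∃ n ∈ Subgroup.normalizer (Q' : Set H), ∃ l ∈ L, n * l = y := by
        have h5 : y ∈ (↑(Subgroup.normalizer (Q' : Set H) ⊔ L) : Set H) := by
          rw [hfrat]; exact Subgroup.mem_top y
        rw [Subgroup.mul_normal] at h5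
        exact Set.mem_mul.1 h5
      have hfn : f n ∉ B := by
        intro hnB
        have h5 : f y ∈ B := by rw [← hnl, map_mul]; exact mul_mem hnB hl
        obtain ⟨k, hk⟩ := IsPGroup.iff_orderOf.1 hBq ⟨f y, h5⟩
        rw [Subgroup.orderOf_mk] at hk
        exact hfy (orderOf_eq_one_iff.1 (Nat.eq_one_of_dvd_coprimes
          (Nat.Coprime.pow_left k ((Nat.coprime_primes hq hp.out).2 hqp)) (dvd_of_eq hk)
          (hyo ▸ orderOf_map_dvd f y)))
      have hnp : n ^ p = 1 := by
        refine (h2 n).resolve_right fun hco => hfn ?_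
        have h5 : f y ^ orderOf n ∈ B := by
          rw [← QuotientGroup.eq_one_iff (N := B), QuotientGroup.mk_pow, ← hnl, map_mul,
            QuotientGroup.mk_mul, (QuotientGroup.eq_one_iff (f l)).2 hl, mul_one,
            ← QuotientGroup.mk_pow, ← map_pow, pow_orderOf_eq_one, map_one, QuotientGroup.mk_one]
        obtain ⟨m, hm⟩ := exists_pow_eq_self_of_coprime (x := f y) (n := orderOf n)
          (hco.coprime_dvd_right (hyo ▸ orderOf_map_dvd f y))
        have h6 : f y ∈ B := hm ▸ pow_mem h5 m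
        have h7 : f n = f y * (f l)⁻¹ := by rw [← hnl, map_mul, mul_inv_cancel_right]
        rw [h7]
        exact mul_mem h6 (inv_mem hl)
      have hn1 : n ≠ 1 := fun e => hfn (by rw [e, map_one]; exact one_mem _)
      refine no_normalized hexp h1 h2 h4 hnp hn1 (R := Q') ?_ ?_ ?_
      · rw [hQ', Ne, Subgroup.map_eq_bot_iff_of_injective _ L.subtype_injective]
        refine Q.ne_bot_of_dvd_card ?_
        have h5 : Nat.card B ∣ Nat.card L :=
          Subgroup.card_dvd_of_surjective (f.subgroupComap B)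
            (MonoidHom.subgroupComap_surjective_of_surjective f B (QuotientGroup.mk'_surjective K))
        haveI : Nontrivial B := (Subgroup.nontrivial_iff_ne_bot B).2 hBne
        obtain ⟨k, hk0, hk⟩ := hBq.nontrivial_iff_card.1 inferInstance
        exact (hk ▸ dvd_pow_self q hk0.ne').trans h5
      · obtain ⟨k, hk⟩ := IsPGroup.iff_card.1 (Q.2.map L.subtype : IsPGroup q Q')
        rw [hk]
        exact Nat.Coprime.pow_left k ((Nat.coprime_primes hq hp.out).2 hqp)
      · intro r hr
        exact ((Subgroup.mem_normalizer_iff.1 hn) r).1 hr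

end Cfsg.Agent.Partition
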