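import Cfsg.Agent.Lib.Partition.Basic
import Cfsg.Agent.Lib.Partition.FixedPointFree
import Cfsg.Agent.Lib.Cores.Nilpotent

/-!
# Groups with a partition and a nontrivial abelian normal subgroup

Without a Frobenius complement and without a proper Hughes subgroup such a group is the symmetric
group of degree four.
-/

set_option autoImplicit false
set_option linter.unusedSectionVars false
set_option linter.style.haveILetI false

open scoped Pointwise IsMulCommutative

namespace Cfsg.Agent.Partition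

variable {G : Type*} [Group G]

/-- A product of conjugates, as a power. -/
theorem mul_pow_eq_prod {W : Subgroup G} [W.Normal] [IsMulCommutative W] (u : W) (x : G) (k : ℕ) :
    ((u : G) * x) ^ k =
      ((∏ i ∈ Finset.range k, (MulAut.conjNormal (x ^ i) : MulAut W) u : W) : G) * x ^ k := by
  induction k with
  | zero => simp
  | succ k ih =>
    rw [Finset.prod_range_succ, Subgroup.coe_mul, MulAut.conjNormal_apply, pow_succ, ih, pow_succ]
    group

variable [Finite G]

/-- A `p`-element normalising a nontrivial `p`-group fixes a non-identity element of it. -/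
theorem exists_fixed {W : Subgroup G} {p : ℕ} [Fact p.Prime] (hW : IsPGroup p W) (hne : W ≠ ⊥)
    {y : G} (hy : ∀ w ∈ W, y * w * y⁻¹ ∈ W) {k : ℕ} (hk : y ^ p ^ k = 1) :
    ∃ z ∈ W, z ≠ 1 ∧ Commute y z := by
  classical
  haveI := Fintype.ofFinite W
  have hy' : ∀ i : ℕ, ∀ w ∈ W, y ^ i * w * (y ^ i)⁻¹ ∈ W := by
    intro i
    induction i with
    | zero => intro w hw; simpa using hw
    | succ i ih => intro w hw; simpa [pow_succ', mul_assoc] using hy _ (ih w hw)
  have hinv : y⁻¹ = y ^ (p ^ k - 1) := by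
    refine inv_eq_of_mul_eq_one_right ?_
    rw [← pow_succ', Nat.sub_add_cancel (Nat.one_le_pow _ _ (Fact.out (p := p.Prime)).pos), hk]
  let σ : Equiv.Perm W :=
    { toFun := fun x => ⟨y * x * y⁻¹, hy x x.2⟩
      invFun := fun x => ⟨y⁻¹ * x * y, by
        have h := hy' (p ^ k - 1) x x.2
        rw [← hinv, inv_inv] at h
        exact h⟩
      left_inv := fun x => Subtype.ext (by simp [mul_assoc])
      right_inv := fun x => Subtype.ext (by simp [mul_assoc]) }
  have hpow : ∀ (n : ℕ) (x : W), (((σ ^ n) x : W) : G) = y ^ n * x * (y ^ n)⁻¹ := by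
    intro n
    induction n with
    | zero => intro x; simp
    | succ n ih =>
      intro x
      rw [pow_succ', Equiv.Perm.mul_apply]
      show y * ((σ ^ n) x : W) * y⁻¹ = _
      rw [ih]; group
  have hσ : σ ^ p ^ k = 1 := Equiv.ext fun x => Subtype.ext (by rw [hpow, hk]; simp)
  haveI : Nontrivial W := (Subgroup.nontrivial_iff_ne_bot W).2 hne
  obtain ⟨n, hn0, hn⟩ := hW.nontrivial_iff_card.1 inferInstance
  obtain ⟨z, hz, hz1⟩ := Equiv.Perm.exists_fixed_point_of_prime'
    (Nat.card_eq_fintype_card (α := W) ▸ (hn ▸ dvd_pow_self p hn0.ne' : p ∣ Nat.card W)) hσ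
    (a := 1) (Subtype.ext (by simp [σ]))
  exact ⟨z, z.2, fun e => hz1 (Subtype.ext e), mul_inv_eq_iff_eq_mul.1 (congrArg Subtype.val hz)⟩

theorem isPGroup_of_coprime {X : Subgroup G} {p : ℕ} [hp : Fact p.Prime]
    (h : ∀ x ∈ X, (orderOf x).Coprime p → x = 1) : IsPGroup p X := by
  refine IsPGroup.iff_orderOf.2 fun x => ⟨_, Nat.eq_prime_pow_of_unique_prime_dvd (orderOf_pos x).ne'
    fun {q} hq hqd => ?_⟩
  by_contra hne
  rw [← Subgroup.orderOf_coe] at hqd
  have ho := orderOf_pow_orderOf_div (orderOf_pos (x : G)).ne' hqd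
  have h1 := h _ (pow_mem x.2 (orderOf (x : G) / q)) (by rw [ho]; exact (Nat.coprime_primes hq hp.out).2 hne)
  rw [h1, orderOf_one] at ho
  exact hq.one_lt.ne ho

namespace Part

variable (T : Part G) (hF : ∀ H : Subgroup G, ¬ Cfsg.IsFrobeniusComplement H)
  (hH : ∀ p : ℕ, p.Prime → Subgroup.closure {g : G | g ^ p ≠ 1} = ⊤)

include hF in
theorem isNilpotent {g : G} (hg : g ≠ 1) : Group.IsNilpotent (T.comp g) :=
  T.isNilpotent_comp hg (T.isFrobenius_or_nor_ne hF hg)

include hF hH in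
/-- No component is normal. -/
theorem not_normal_comp {a : G} (ha : a ≠ 1) : ¬ (T.comp a).Normal := by
  classical
  intro hXn
  set X := T.comp a with hX
  haveI := hXn
  haveI hnil : Group.IsNilpotent X := T.isNilpotent hF ha
  have hnor : ∀ g : G, g ∈ T.nor a := fun g => by
    rw [Part.nor, Subgroup.normalizer_eq_top_iff.2 hXn]
    exact Subgroup.mem_top g
  have hcne : ∀ {k g : G}, k ∈ X → k ≠ 1 → g ∉ X → T.comp k ≠ T.comp g := fun {k g} hk hk1 hg e =>
    hg (by
      have h := T.mem g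
      rw [← e, T.eq_of_mem ha hk1 hk] at h
      exact h)
  have hmk : ∀ {g : G}, g ∉ X → orderOf (QuotientGroup.mk g : G ⧸ X) = orderOf g := by
    intro g hg
    refine orderOf_eq_orderOf_iff.2 fun n => ?_
    rw [← QuotientGroup.mk_pow, QuotientGroup.eq_one_iff]
    exact T.pow_mem_iff ha hg n
  have common : ∀ r : ℕ, r.Prime → r ∣ Nat.card X → r ∣ X.index →
      (∀ g : G, g ∉ X → g ^ r = 1 ∨ (orderOf g).Coprime r) ∧
        ∀ P : Sylow r (G ⧸ X), (P : Subgroup (G ⧸ X)).Normal := by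
    intro r hr hrX _
    haveI := Fact.mk hr
    let W : Subgroup G :=
      { carrier := {x | x ∈ X ∧ (∀ z ∈ X, Commute x z) ∧ x ^ r = 1}
        mul_mem' := fun {x y} hx hy => ⟨mul_mem hx.1 hy.1, fun z hz => (hx.2.1 z hz).mul_left (hy.2.1 z hz),
          by rw [(hx.2.1 y hy.1).mul_pow, hx.2.2, hy.2.2, one_mul]⟩
        one_mem' := ⟨one_mem _, fun z _ => Commute.one_left z, one_pow r⟩
        inv_mem' := fun {x} hx => ⟨inv_mem hx.1, fun z hz => (hx.2.1 z hz).inv_left,
          by rw [inv_pow, hx.2.2, inv_one]⟩ }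
    have hWmem : ∀ {x : G}, x ∈ W → x ∈ X ∧ (∀ z ∈ X, Commute x z) ∧ x ^ r = 1 := fun h => h
    haveI : W.Normal := ⟨fun x hx g => by
      obtain ⟨h1, h2, h3⟩ := hWmem hx
      refine ⟨hXn.conj_mem x h1 g, fun z hz => ?_, by rw [conj_pow, h3, mul_one, mul_inv_cancel]⟩
      have h5 := h2 _ (hXn.conj_mem z hz g⁻¹)
      rw [inv_inv] at h5
      show g * x * g⁻¹ * z = z * (g * x * g⁻¹)
      calc g * x * g⁻¹ * z = g * (x * (g⁻¹ * z * g)) * g⁻¹ := by group
        _ = _ := by rw [h5.eq]; group⟩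
    haveI : IsMulCommutative W := ⟨⟨fun x y => Subtype.ext ((hWmem x.2).2.1 y (hWmem y.2).1).eq⟩⟩
    have hWexp : ∀ w : W, w ^ r = 1 := fun w => Subtype.ext (by simpa using (hWmem w.2).2.2)
    have hWr : IsPGroup r W := fun w => ⟨1, by rw [pow_one]; exact hWexp w⟩
    have hWne : W ≠ ⊥ := by
      obtain ⟨R⟩ : Nonempty (Sylow r X) := inferInstance
      haveI : (R : Subgroup X).Normal :=
        Sylow.normal_of_normalizerCondition Group.normalizerCondition_of_isNilpotent R
      obtain ⟨z, hz, hz1⟩ := (Subgroup.bot_or_exists_ne_one _).resolve_left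
        (Cfsg.Agent.Cores.inf_center_ne_bot (N := (R : Subgroup X)) (R.ne_bot_of_dvd_card hrX))
      obtain ⟨k, hk⟩ := IsPGroup.iff_orderOf.1 R.2 ⟨z, hz.1⟩
      rw [Subgroup.orderOf_mk] at hk
      have hrd : r ∣ orderOf z := by
        rcases k with _ | k
        · exact absurd (orderOf_eq_one_iff.1 (by simpa using hk)) hz1
        · exact hk ▸ dvd_pow_self r k.succ_ne_zero
      set z' := z ^ (orderOf z / r) with hz'
      have ho : orderOf z' = r := orderOf_pow_orderOf_div (orderOf_pos z).ne' hrd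
      intro e
      have hmem : (z' : G) ∈ W := ⟨z'.2, fun u hu =>
        (congrArg Subtype.val (Subgroup.mem_center_iff.1 (pow_mem hz.2 _) ⟨u, hu⟩)).symm,
        by rw [← ho, ← Subgroup.orderOf_coe, pow_orderOf_eq_one]⟩
      rw [e, Subgroup.mem_bot] at hmem
      rw [show z' = 1 from Subtype.ext hmem, orderOf_one] at ho
      exact hr.one_lt.ne ho
    have h2 : ∀ g : G, g ∉ X → g ^ r = 1 ∨ (orderOf g).Coprime r := by
      intro g hg
      by_contra hc
      push Not at hc
      obtain ⟨hc1, hc2⟩ := hc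
      have hrd : r ∣ orderOf g := by
        by_contra h
        exact hc2 ((hr.coprime_iff_not_dvd.2 h).symm)
      set y := g ^ (orderOf g / r) with hy
      have ho : orderOf y = r := orderOf_pow_orderOf_div (orderOf_pos g).ne' hrd
      have hyX : y ∉ X := fun h => by
        rw [hy, T.pow_mem_iff ha hg] at h
        rw [hy, h, orderOf_one] at ho
        exact hr.one_lt.ne ho
      obtain ⟨z, hz, hz1, hzy⟩ := exists_fixed hWr hWne
        (fun w hw => Subgroup.Normal.conj_mem inferInstance w hw y) (k := 1)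
        (by rw [pow_one, ← ho, pow_orderOf_eq_one])
      refine hz1 (T.no_mixed (u := g) ha hyX (hnor g) (fun e => hg (by rw [e]; exact one_mem _))
        ((Commute.refl g).pow_right _) (fun e => hc1 ?_) (hWmem hz).1 hzy.symm)
      rw [← ho, ← e, pow_orderOf_eq_one]
    refine ⟨h2, fun P => ?_⟩
    haveI : Nontrivial W := (Subgroup.nontrivial_iff_ne_bot W).2 hWne
    let φ₀ : G →* MulAut W := MulAut.conjNormal
    have hXker : X ≤ φ₀.ker := fun x hx => MonoidHom.mem_ker.2 <| MulEquiv.ext fun w => Subtype.ext <| by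
      rw [MulAut.conjNormal_apply, ← ((hWmem w.2).2.1 x hx).eq, mul_inv_cancel_right]
      rfl
    refine sylow_normal (φ := QuotientGroup.lift X φ₀ hXker) hWexp ?_ ?_ ?_ P
    · intro h hh hco w hw
      obtain ⟨g, rfl⟩ := QuotientGroup.mk_surjective h
      have hg : g ∉ X := fun e => hh ((QuotientGroup.eq_one_iff g).2 e)
      rw [QuotientGroup.lift_mk] at hw
      by_contra hw1
      have hwG : (w : G) ≠ 1 := fun e => hw1 (Subtype.ext e)
      have hc : Commute g (w : G) := mul_inv_eq_iff_eq_mul.1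
        ((MulAut.conjNormal_apply g w).symm.trans (congrArg Subtype.val hw))
      have h5 := (T.orderOf_eq_of_commute hwG (fun e => hg (by rw [e]; exact one_mem _)) hc.symm
        (hcne (hWmem w.2).1 hwG hg)).1
      rw [hmk hg, ← h5, orderOf_eq_prime (hWmem w.2).2.2 hwG, Nat.coprime_self] at hco
      exact hr.one_lt.ne' hco
    · intro h
      obtain ⟨g, rfl⟩ := QuotientGroup.mk_surjective h
      by_cases hg : g ∈ X
      · exact Or.inl (by rw [(QuotientGroup.eq_one_iff g).2 hg, one_pow])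
      rcases h2 g hg with h | h
      · exact Or.inl (by rw [← QuotientGroup.mk_pow, h, QuotientGroup.mk_one])
      · exact Or.inr (by rwa [hmk hg])
    · intro y hy w
      obtain ⟨g, rfl⟩ := QuotientGroup.mk_surjective y
      by_cases hg : g ∈ X
      · rw [(QuotientGroup.eq_one_iff g).2 hg]
        simp [hWexp]
      simp only [← QuotientGroup.mk_pow, QuotientGroup.lift_mk]
      have hgr : g ^ r = 1 := by
        rw [← orderOf_dvd_iff_pow_eq_one, ← hmk hg]
        exact orderOf_dvd_of_pow_eq_one hy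
      have h5 := mul_pow_eq_prod w g r
      rw [hgr, mul_one, show (w : G) * g = g * (g⁻¹ * w * g) by group] at h5
      refine Subtype.ext (h5.symm.trans ?_)
      rw [Subgroup.coe_one, ← orderOf_dvd_iff_pow_eq_one, T.orderOf_mul_eq ha (hnor g) hg
        (by simpa using hXn.conj_mem w (hWmem w.2).1 g⁻¹)]
      exact orderOf_dvd_of_pow_eq_one hgr
  have hXbot : X ≠ ⊥ := T.ne_bot ha
  by_cases hall : ∀ r : ℕ, r.Prime → r ∣ Nat.card X → ¬ r ∣ X.index
  · obtain ⟨H, hHc⟩ := exists_isFrobeniusComplement (K := X)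
      (Nat.coprime_of_dvd hall) hXbot (T.ne_top ha) fun k hk hk1 ρ hρ hco hc => by
        have h5 := (T.orderOf_eq_of_commute hk1 (fun e => hρ (by rw [e]; exact one_mem _)) hc (hcne hk hk1 hρ)).1
        rw [← h5] at hco
        exact hk1 (orderOf_eq_one_iff.1
          (Nat.eq_one_of_dvd_coprimes hco dvd_rfl (Subgroup.orderOf_dvd_natCard X hk)))
    exact hF H hHc
  push Not at hall
  obtain ⟨r, hr, hrX, hrI⟩ := hall
  haveI := Fact.mk hr
  obtain ⟨h2, hnormal⟩ := common r hr hrX hrI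
  have huniq : ∀ s : ℕ, s.Prime → s ∣ Nat.card X → s ∣ X.index → s = r := by
    intro s hs hsX hsI
    by_contra hsr
    haveI := Fact.mk hs
    obtain ⟨-, hnormal'⟩ := common s hs hsX hsI
    obtain ⟨P⟩ : Nonempty (Sylow r (G ⧸ X)) := inferInstance
    obtain ⟨Q⟩ : Nonempty (Sylow s (G ⧸ X)) := inferInstance
    haveI := hnormal P
    haveI := hnormal' Q
    have hcardI : X.index = Nat.card (G ⧸ X) := Subgroup.index_eq_card X
    obtain ⟨x, hx⟩ := exists_prime_orderOf_dvd_card' r (P.dvd_card_of_dvd_card (hcardI ▸ hrI))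
    obtain ⟨y, hy⟩ := exists_prime_orderOf_dvd_card' s (Q.dvd_card_of_dvd_card (hcardI ▸ hsI))
    have hdis : Disjoint (P : Subgroup (G ⧸ X)) (Q : Subgroup (G ⧸ X)) :=
      IsPGroup.disjoint_of_ne r s (Ne.symm hsr) _ _ P.2 Q.2
    have hc := Subgroup.commute_of_normal_of_disjoint _ _ inferInstance inferInstance hdis (x : G ⧸ X) (y : G ⧸ X) x.2 y.2
    have ho : orderOf ((x : G ⧸ X) * (y : G ⧸ X)) = r * s := by
      rw [hc.orderOf_mul_eq_mul_orderOf_of_coprime (by
          rw [Subgroup.orderOf_coe, Subgroup.orderOf_coe, hx, hy]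
          exact (Nat.coprime_primes hr hs).2 (Ne.symm hsr)),
        Subgroup.orderOf_coe, Subgroup.orderOf_coe, hx, hy]
    obtain ⟨g, hg⟩ := QuotientGroup.mk_surjective ((x : G ⧸ X) * (y : G ⧸ X))
    have hgX : g ∉ X := fun e => by
      rw [← hg, (QuotientGroup.eq_one_iff g).2 e, orderOf_one] at ho
      exact hr.one_lt.ne (Nat.eq_one_of_mul_eq_one_right ho.symm).symm
    rw [← hg, hmk hgX] at ho
    rcases h2 g hgX with h | h
    · have h6 := orderOf_dvd_of_pow_eq_one h
      rw [ho] at h6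
      exact absurd (Nat.le_of_dvd hr.pos h6) (not_le.2 (lt_mul_of_one_lt_right hr.pos hs.one_lt))
    · rw [ho] at h
      exact hr.one_lt.ne (Nat.coprime_self r |>.1 (h.coprime_dvd_left (dvd_mul_right r s))).symm
  obtain ⟨P⟩ : Nonempty (Sylow r (G ⧸ X)) := inferInstance
  haveI := hnormal P
  set f := QuotientGroup.mk' X with hf
  set K := (P : Subgroup (G ⧸ X)).comap f with hK
  have hKr : ∀ k ∈ K, k ∉ X → k ^ r = 1 := by
    intro k hk hkX
    refine (h2 k hkX).resolve_right fun hco => hkX ?_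
    obtain ⟨m, hm⟩ := IsPGroup.iff_orderOf.1 P.2 (⟨f k, hk⟩ : (P : Subgroup (G ⧸ X)))
    rw [← Subgroup.orderOf_coe] at hm
    have h6 : orderOf (f k) = 1 :=
      Nat.eq_one_of_dvd_coprimes (hco.pow_right m) (orderOf_map_dvd f k) (dvd_of_eq hm)
    exact (QuotientGroup.eq_one_iff k).1 (orderOf_eq_one_iff.1 h6)
  have hXK : X ≤ K := fun x hx => by
    rw [hK, Subgroup.mem_comap, hf, QuotientGroup.mk'_apply, (QuotientGroup.eq_one_iff x).2 hx]
    exact one_mem _
  by_cases hKtop : K = ⊤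
  · refine T.ne_top ha (top_le_iff.1 ((hH r hr).ge.trans ((Subgroup.closure_le _).2 fun g hg => ?_)))
    by_contra hgX
    exact hg (hKr g (hKtop ▸ Subgroup.mem_top g) hgX)
  have hidx : K.index = (P : Subgroup (G ⧸ X)).index :=
    Subgroup.index_comap_of_surjective _ (QuotientGroup.mk'_surjective X)
  have hcard : Nat.card K = Nat.card X * Nat.card P := by
    have h5 := K.card_mul_index
    rw [← X.card_mul_index, Subgroup.index_eq_card X, ← (P : Subgroup (G ⧸ X)).card_mul_index, hidx,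
      ← mul_assoc] at h5
    exact Nat.eq_of_mul_eq_mul_right (Nat.pos_of_ne_zero Subgroup.index_ne_zero_of_finite) h5
  have hrK : r ∣ Nat.card K := hcard ▸ hrX.mul_right _
  have hco : (Nat.card K).Coprime K.index := by
    refine Nat.coprime_of_dvd fun s hs hsK hsI => ?_
    rw [hidx] at hsI
    rw [hcard] at hsK
    have hsr : s ≠ r := fun e => P.not_dvd_index (e ▸ hsI)
    rcases hs.dvd_mul.1 hsK with h | h
    · exact hsr (huniq s hs h (Subgroup.index_eq_card X ▸ hsI.trans ((P : Subgroup (G ⧸ X)).index_dvd_card)))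
    · obtain ⟨m, hm⟩ := IsPGroup.iff_card.1 P.2
      rw [hm] at h
      exact hsr ((Nat.prime_dvd_prime_iff_eq hs hr).1 (hs.dvd_of_dvd_pow h))
  obtain ⟨H, hHc⟩ := exists_isFrobeniusComplement (K := K) hco
    (fun e => hXbot (le_bot_iff.1 (e ▸ hXK))) hKtop fun k hk hk1 ρ hρ hρco hc => by
      have hρX : ρ ∉ X := fun e => hρ (hXK e)
      by_cases hkX : k ∈ X
      · have h5 := (T.orderOf_eq_of_commute hk1 (fun e => hρ (by rw [e]; exact one_mem _)) hc (hcne hkX hk1 hρX)).1
        rw [← h5] at hρco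
        exact hk1 (orderOf_eq_one_iff.1
          (Nat.eq_one_of_dvd_coprimes hρco dvd_rfl (Subgroup.orderOf_dvd_natCard K hk)))
      · have hkr := hKr k hk hkX
        have hρr : (orderOf ρ).Coprime r := hρco.coprime_dvd_right hrK
        have hρk : ρ * k ∉ X := fun e => hρ (by simpa using mul_mem (hXK e) (inv_mem hk))
        rcases h2 _ hρk with h | h
        · rw [hc.symm.mul_pow, hkr, mul_one] at h
          exact hρ (orderOf_eq_one_iff.1
            (Nat.eq_one_of_dvd_coprimes hρr dvd_rfl (orderOf_dvd_of_pow_eq_one h)) ▸ one_mem _)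
        · have h6 : (ρ * k) ^ orderOf ρ = k ^ orderOf ρ := by
            rw [hc.symm.mul_pow, pow_orderOf_eq_one, one_mul]
          have h7 : k ^ orderOf ρ = 1 := orderOf_eq_one_iff.1 (Nat.eq_one_of_dvd_coprimes h
            (h6 ▸ orderOf_pow_dvd (orderOf ρ))
            (orderOf_dvd_of_pow_eq_one (by rw [← pow_mul, mul_comm, pow_mul, hkr, one_pow])))
          exact hk1 (orderOf_eq_one_iff.1 (Nat.eq_one_of_dvd_coprimes hρr
            (orderOf_dvd_of_pow_eq_one h7) (orderOf_dvd_of_pow_eq_one hkr)))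
  exact hF H hHc

include hF in
/-- A component which meets a normal subgroup `W` of exponent `p` and has larger exponent forces
`p = 2` and `|W| = 4`. -/
theorem fat_card (W : Subgroup G) [W.Normal] [IsMulCommutative W] {p : ℕ} [hp : Fact p.Prime]
    (hexp : ∀ a ∈ W, a ^ p = 1) (hsplit : ∀ g : G, g ≠ 1 → ∃ w ∈ W, w ∉ T.comp g)
    (hnn : ∀ g : G, g ≠ 1 → ¬ (T.comp g).Normal)
    {g w₀ : G} (hw₀ : w₀ ∈ W) (hw₀1 : w₀ ≠ 1) (hgw : Commute g w₀) (hg : g ^ p ≠ 1) :
    p = 2 ∧ Nat.card W = 4 := by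
  classical
  have habW : ∀ a ∈ W, ∀ b ∈ W, Commute a b := fun a ha b hb =>
    congrArg Subtype.val (mul_comm' (⟨a, ha⟩ : W) ⟨b, hb⟩)
  have hg1 : g ≠ 1 := fun e => hg (by rw [e, one_pow])
  have hgX : g ∈ T.comp w₀ := by
    by_contra h
    exact hg (T.pow_prime_eq_one hp.out hw₀1 (hexp _ hw₀) hgw.symm h)
  set X := T.comp w₀ with hX
  obtain ⟨w, hw, hwX⟩ := hsplit w₀ hw₀1
  have hwn : w ∈ T.nor w₀ := T.mem_nor_of_commute hw₀1 (habW w hw w₀ hw₀)
  have hw1 : w ≠ 1 := fun e => hwX (e ▸ one_mem _)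
  have hnil : Group.IsNilpotent X := T.isNilpotent hF hw₀1
  have hXp : IsPGroup p X := by
    refine isPGroup_of_coprime fun x hx hco => ?_
    set c := x * w * x⁻¹ * w⁻¹ with hc
    have hcX : c ∈ X := by
      rw [hc, show x * w * x⁻¹ * w⁻¹ = x * (w * x⁻¹ * w⁻¹) by group]
      exact mul_mem hx ((T.conj_mem_nor hwn).2 (inv_mem hx))
    have hcW : c ∈ W := mul_mem (Subgroup.Normal.conj_mem inferInstance w hw x) (inv_mem hw)
    have hxc : Commute x c := CN.commute_of_coprime hnil hx hcX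
      (hco.coprime_dvd_right (orderOf_dvd_of_pow_eq_one (hexp _ hcW)))
    have key : ∀ n : ℕ, x ^ n * w * (x ^ n)⁻¹ = c ^ n * w := by
      intro n
      induction n with
      | zero => simp
      | succ n ih =>
        calc x ^ (n + 1) * w * (x ^ (n + 1))⁻¹ = x * (x ^ n * w * (x ^ n)⁻¹) * x⁻¹ := by
              rw [pow_succ']; group
          _ = x * (c ^ n * w) * x⁻¹ := by rw [ih]
          _ = (x * c ^ n * x⁻¹) * c * w := by rw [hc]; group
          _ = c ^ (n + 1) * w := by rw [(hxc.pow_right n).eq, mul_inv_cancel_right, ← pow_succ]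
    have h5 := key (orderOf x)
    rw [pow_orderOf_eq_one, one_mul, inv_one, mul_one] at h5
    have hc1 : c = 1 := orderOf_eq_one_iff.1 (Nat.eq_one_of_dvd_coprimes hco
      (orderOf_dvd_of_pow_eq_one (mul_eq_right.1 h5.symm))
      (orderOf_dvd_of_pow_eq_one (hexp _ hcW)))
    rw [hc, mul_inv_eq_one, mul_inv_eq_iff_eq_mul] at hc1
    by_contra hx1
    have hne : x ∉ T.comp w := fun e => hwX (by
      have h := T.mem w
      rw [← T.eq_of_mem hw1 hx1 e, T.eq_of_mem hw₀1 hx1 hx] at h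
      exact h)
    exact hx1 (orderOf_eq_one_iff.1 (Nat.eq_one_of_dvd_coprimes hco dvd_rfl (orderOf_dvd_of_pow_eq_one
      (T.pow_prime_eq_one hp.out hw1 (hexp _ hw) (show Commute x w from hc1).symm hne))))
  have hout : ∀ u ∈ W, u ∉ X → ∀ x ∈ X, (u * x) ^ p = 1 := by
    intro u hu huX x hx
    rw [← orderOf_dvd_iff_pow_eq_one, T.orderOf_mul_eq hw₀1
      (T.mem_nor_of_commute hw₀1 (habW u hu w₀ hw₀)) huX hx]
    exact orderOf_dvd_of_pow_eq_one (hexp u hu)
  obtain rfl : p = 2 := by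
    by_contra hp2
    have hodd : Odd p := hp.out.odd_of_ne_two hp2
    have hw2 : w ^ 2 ∉ X := fun e => by
      rw [T.pow_mem_iff hw₀1 hwX] at e
      exact hw1 (orderOf_eq_one_iff.1 (Nat.eq_one_of_dvd_coprimes (Nat.coprime_two_left.2 hodd)
        (orderOf_dvd_of_pow_eq_one e) (orderOf_dvd_of_pow_eq_one (hexp w hw))))
    have h1 := mul_pow_eq_prod (⟨w, hw⟩ : W) g p
    have h3 := mul_pow_eq_prod ((⟨w, hw⟩ : W) ^ 2) g p
    rw [hout w hw hwX g hgX] at h1
    rw [Subgroup.coe_pow, hout (w ^ 2) (pow_mem hw 2) hw2 g hgX] at h3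
    have hsq : ∏ i ∈ Finset.range p, (MulAut.conjNormal (g ^ i) : MulAut W) ((⟨w, hw⟩ : W) ^ 2) =
        (∏ i ∈ Finset.range p, (MulAut.conjNormal (g ^ i) : MulAut W) ⟨w, hw⟩) ^ 2 := by
      rw [← Finset.prod_pow]
      exact Finset.prod_congr rfl fun i _ => map_pow _ _ 2
    rw [hsq, Subgroup.coe_pow] at h3
    set N : G := ((∏ i ∈ Finset.range p, (MulAut.conjNormal (g ^ i) : MulAut W) ⟨w, hw⟩ : W) : G)
    have h4 : N = N ^ 2 := mul_right_cancel (h1.symm.trans h3)
    rw [pow_two] at h4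
    have h5 : N = 1 := mul_eq_left.1 h4.symm
    rw [h5, one_mul] at h1
    exact hg h1.symm
  refine ⟨rfl, ?_⟩
  have hg2 : g * g ≠ 1 := by rwa [← pow_two]
  -- two elements of `W` outside a component of exponent larger than two differ by an element of it
  have pairmem : ∀ (h : G), ∀ u ∈ W, ∀ v ∈ W, u ∉ T.comp (h * w₀ * h⁻¹) → v ∉ T.comp (h * w₀ * h⁻¹) →
      u * v ∈ T.comp (h * w₀ * h⁻¹) := by
    intro h u hu v hv huX hvX
    rw [T.conj h⁻¹ _ u] at huX
    rw [T.conj h⁻¹ _ v] at hvX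
    rw [T.conj h⁻¹ _ (u * v)]
    have e : h⁻¹ * (h * w₀ * h⁻¹) * (h⁻¹)⁻¹ = w₀ := by group
    rw [e] at huX hvX ⊢
    rw [show h⁻¹ * (u * v) * h⁻¹⁻¹ = (h⁻¹ * u * h⁻¹⁻¹) * (h⁻¹ * v * h⁻¹⁻¹) by group]
    have hu' := Subgroup.Normal.conj_mem (inferInstance : W.Normal) u hu h⁻¹
    have hv' := Subgroup.Normal.conj_mem (inferInstance : W.Normal) v hv h⁻¹
    set u' := h⁻¹ * u * h⁻¹⁻¹
    set v' := h⁻¹ * v * h⁻¹⁻¹
    have inv : ∀ z ∈ W, z ∉ X → z * g * z⁻¹ = g⁻¹ := by
      intro z hz hzX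
      have h1 := hout z hz hzX g hgX
      rw [pow_two] at h1
      have hz2 : z⁻¹ = z := inv_eq_of_mul_eq_one_left (by rw [← pow_two]; exact hexp z hz)
      rw [hz2]
      exact eq_inv_of_mul_eq_one_left (by rw [← h1]; group)
    by_contra hnot
    have hne1 : u' * v' ≠ 1 := fun e1 => hnot (e1 ▸ one_mem _)
    have hc : Commute (u' * v') g := mul_inv_eq_iff_eq_mul.1 (by
      calc u' * v' * g * (u' * v')⁻¹ = u' * (v' * g * v'⁻¹) * u'⁻¹ := by group
        _ = (u' * g * u'⁻¹)⁻¹ := by rw [inv v' hv' hvX]; group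
        _ = g := by rw [inv u' hu' huX, inv_inv])
    refine hg2 ?_
    rw [← pow_two]
    refine T.pow_prime_eq_one hp.out hne1 (hexp _ (mul_mem hu' hv')) hc fun e => hnot ?_
    rw [← T.eq_of_mem hw₀1 hg1 hgX, T.eq_of_mem hne1 hg1 e]
    exact T.mem _
  have pairmem' : ∀ u ∈ W, ∀ v ∈ W, u ∉ X → v ∉ X → u * v ∈ X := by
    intro u hu v hv huX hvX
    have := pairmem 1 u hu v hv (by simpa using huX) (by simpa using hvX)
    simpa using this
  obtain ⟨h, hh⟩ : ∃ h, h * w₀ * h⁻¹ ∉ X := by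
    by_contra hall
    push Not at hall
    refine hnn w₀ hw₀1 (Subgroup.normalizer_eq_top_iff.1 (eq_top_iff.2 fun h _ => ?_))
    exact (T.mem_nor_iff hw₀1).2 (hall h)
  set w₁ := h * w₀ * h⁻¹ with hw₁
  have hw₁1 : w₁ ≠ 1 := fun e => hh (e ▸ one_mem _)
  have hdiff : T.comp w₀ ≠ T.comp w₁ := fun e => hh (by rw [hX, e]; exact T.mem w₁)
  have honly : ∀ u ∈ W, u ∈ X → u = 1 ∨ u = w₀ := by
    intro u hu huX
    by_contra hne
    push Not at hne
    have h1 : ∀ z ∈ X, z ≠ 1 → z ∉ T.comp w₁ := fun z hz hz1 hz' =>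
      hz1 (T.eq_one_of_mem_of_mem hw₀1 hw₁1 hdiff hz hz')
    have h2 : u * w₀ = 1 := T.eq_one_of_mem_of_mem hw₀1 hw₁1 hdiff (mul_mem huX (T.mem w₀))
      (pairmem h u hu w₀ hw₀ (h1 u huX hne.1) (h1 w₀ (T.mem w₀) hw₀1))
    refine hne.2 ((eq_inv_of_mul_eq_one_left h2).trans (inv_eq_of_mul_eq_one_left ?_))
    rw [← pow_two]; exact hexp _ hw₀
  have hww : w * w = 1 := by rw [← pow_two]; exact hexp w hw
  have hset : (W : Set G) = {1, w₀, w, w * w₀} := by
    ext u
    simp only [SetLike.mem_coe, Set.mem_insert_iff, Set.mem_singleton_iff]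
    constructor
    · intro hu
      by_cases huX : u ∈ X
      · rcases honly u hu huX with h | h
        · exact Or.inl h
        · exact Or.inr (Or.inl h)
      · have h2 : u = w * (w * u) := by rw [← mul_assoc, hww, one_mul]
        rcases honly (w * u) (mul_mem hw hu) (pairmem' w hw u hu hwX huX) with h | h <;> rw [h] at h2
        · exact Or.inr (Or.inr (Or.inl (by rw [h2, mul_one])))
        · exact Or.inr (Or.inr (Or.inr h2))
    · rintro (rfl | rfl | rfl | rfl)
      exacts [one_mem _, hw₀, hw, mul_mem hw hw₀]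
  have hne2 : w * w₀ ∉ X := fun e => hwX (by simpa using mul_mem e (inv_mem (T.mem w₀)))
  rw [show Nat.card W = (W : Set G).ncard from Nat.card_coe_set_eq _, hset,
    Set.ncard_insert_of_notMem, Set.ncard_insert_of_notMem, Set.ncard_pair]
  · intro e
    exact hw₀1 (mul_eq_left.1 e.symm)
  · simp only [Set.mem_insert_iff, Set.mem_singleton_iff, not_or]
    exact ⟨fun e => hwX (e ▸ T.mem w₀), fun e => hne2 (e ▸ T.mem w₀)⟩
  · simp only [Set.mem_insert_iff, Set.mem_singleton_iff, not_or]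
    exact ⟨hw₀1.symm, hw1.symm, fun e => hne2 (e ▸ one_mem _)⟩

include T hH in
/-- A group of order at most 24 which is a Klein group extended by a faithful group is `S₄`. -/
theorem perm_four_of_klein (W : Subgroup G) [W.Normal] (hW : Nat.card W = 4)
    (hC : Subgroup.centralizer (W : Set G) ≤ W) {g w₀ : G} (hw₀ : w₀ ∈ W) (hw₀1 : w₀ ≠ 1)
    (hgw : Commute g w₀) (hgW : g ∉ W) (hab : ∀ a ∈ W, ∀ b ∈ W, Commute a b) :
    Nonempty (G ≃* Equiv.Perm (Fin 4)) := by
  classical
  haveI := Fintype.ofFinite W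
  -- the action on the involutions of `W`
  let V := {w : W // w ≠ 1}
  have hV : Nat.card V = 3 := by
    show Nat.card {w : W // w ≠ 1} = 3
    rw [Nat.card_eq_fintype_card, Fintype.card_subtype_compl, Fintype.card_subtype_eq,
      ← Nat.card_eq_fintype_card, hW]
  let φ : G →* Equiv.Perm V :=
    { toFun := fun x => ((MulAut.conjNormal x : MulAut W).toEquiv).subtypeEquiv fun w => by
        simp
      map_one' := Equiv.ext fun w => Subtype.ext (Subtype.ext (by simp))
      map_mul' := fun x y => Equiv.ext fun w => Subtype.ext (Subtype.ext (by simp [mul_assoc])) }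
  have hker : φ.ker = W := by
    refine le_antisymm (fun x hx => hC (Subgroup.mem_centralizer_iff.2 fun u hu => ?_)) fun x hx => ?_
    · by_cases hu1 : u = 1
      · simp [hu1]
      have h1 := congrArg (fun v : V => ((v : W) : G))
        (Equiv.ext_iff.1 (MonoidHom.mem_ker.1 hx) ⟨⟨u, hu⟩, fun e => hu1 (congrArg Subtype.val e)⟩)
      exact (mul_inv_eq_iff_eq_mul.1 (show x * u * x⁻¹ = u from h1)).symm
    · refine MonoidHom.mem_ker.2 (Equiv.ext fun v => Subtype.ext (Subtype.ext ?_))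
      show x * ((v : W) : G) * x⁻¹ = ((v : W) : G)
      rw [(hab x hx _ (v : W).2).eq, mul_inv_cancel_right]
  have hcard : Nat.card G = 4 * Nat.card φ.range := by
    rw [← φ.ker.card_mul_index, Subgroup.index_ker, hker, hW]
  have hrange : Nat.card φ.range ∣ 6 := by
    have h1 := Subgroup.card_subgroup_dvd_card φ.range
    rwa [Nat.card_perm, hV, show Nat.factorial 3 = 6 from rfl] at h1
  set C := Subgroup.centralizer ({w₀} : Set G) with hCdef
  have hWC : W < C := by
    refine lt_of_le_of_ne (fun u hu => Subgroup.mem_centralizer_singleton_iff.2 (hab u hu w₀ hw₀).eq) ?_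
    intro e
    exact hgW (e ▸ Subgroup.mem_centralizer_singleton_iff.2 hgw.eq)
  have hCtop : C ≠ ⊤ := fun e => hw₀1 (T.eq_one_of_central hH fun x =>
    (Subgroup.mem_centralizer_singleton_iff.1 (show x ∈ C by rw [e]; exact Subgroup.mem_top x)).symm)
  have hG : Nat.card G = 24 := by
    have h1 : 4 ∣ Nat.card C := hW ▸ Subgroup.card_dvd_of_le hWC.le
    have h2 : Nat.card C ≠ 4 := fun e =>
      hWC.ne (Subgroup.eq_of_le_of_card_ge hWC.le (by rw [e, hW]))
    have h3 : C.index ≠ 1 := fun e => hCtop (Subgroup.index_eq_one.1 e)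
    have h4 := C.card_mul_index
    obtain ⟨k, hk⟩ := h1
    rw [hk, hcard] at h4
    have h5 : Nat.card φ.range ≤ 6 := Nat.le_of_dvd (by norm_num) hrange
    have hk2 : 2 ≤ k := by
      have : 0 < Nat.card C := Nat.card_pos
      omega
    have hi2 : 2 ≤ C.index := by
      have : C.index ≠ 0 := Subgroup.index_ne_zero_of_finite
      omega
    have h6 : 4 ≤ Nat.card φ.range := by
      have := Nat.mul_le_mul hk2 hi2
      nlinarith
    rw [hcard]
    interval_cases h : Nat.card φ.range <;> simp_all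
  haveI : Fact (Nat.Prime 3) := ⟨Nat.prime_three⟩
  have hcent : ∀ N : Subgroup G, N.Normal → Nat.card N ∣ 2 → N = ⊥ := by
    intro N hN hd
    refine (Subgroup.eq_bot_iff_forall N).2 fun z hz => ?_
    by_contra hz1
    refine hz1 (T.eq_one_of_central hH fun x => ?_)
    haveI : Nontrivial N := (Subgroup.nontrivial_iff_exists_ne_one N).2 ⟨z, hz, hz1⟩
    have h2 : Nat.card N = 2 :=
      ((Nat.dvd_prime Nat.prime_two).1 hd).resolve_left (Finite.one_lt_card).ne'
    obtain ⟨a, -, hun⟩ := (Nat.card_eq_two_iff' (1 : N)).1 h2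
    have hb : ∀ c : N, c = 1 ∨ c = a := fun c => (em (c = 1)).imp id (hun c)
    have hza : (⟨z, hz⟩ : N) = a := (hb ⟨z, hz⟩).resolve_left fun e => hz1 (congrArg Subtype.val e)
    rcases hb ⟨x * z * x⁻¹, hN.conj_mem z hz x⟩ with e | e
    · exact absurd (conj_eq_one_iff.1 (congrArg Subtype.val e)) hz1
    · rw [← hza] at e
      exact (mul_inv_eq_iff_eq_mul.1 (congrArg Subtype.val e)).symm
  obtain ⟨P⟩ : Nonempty (Sylow 3 G) := inferInstance
  have hP : Nat.card P = 3 := by
    rw [P.card_eq_multiplicity, hG]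
    rw [show (24 : ℕ).factorization 3 = 1 from by
      rw [show (24 : ℕ) = 2 ^ 3 * 3 by norm_num, Nat.factorization_mul (by norm_num) (by norm_num),
        Finsupp.add_apply, Nat.Prime.factorization_pow Nat.prime_two,
        Nat.Prime.factorization Nat.prime_three]
      simp]
    rfl
  have hn : Nat.card (Sylow 3 G) = 4 := by
    have h1 := P.card_dvd_index
    have h2 := card_sylow_modEq_one 3 G
    have h3 : (P : Subgroup G).index = 8 := by
      have h4 := (P : Subgroup G).card_mul_index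
      rw [hP, hG] at h4
      omega
    rw [h3] at h1
    have h5 := Nat.le_of_dvd (by norm_num) h1
    interval_cases h : Nat.card (Sylow 3 G)
    all_goals first
      | rfl
      | (exfalso; revert h1 h2; decide)
      | skip
    exfalso
    haveI hPn : (P : Subgroup G).Normal := by
      haveI : Subsingleton (Sylow 3 G) := (Nat.card_eq_one_iff_unique.1 h).1
      exact Sylow.normal_of_subsingleton P
    have hdis : Disjoint (P : Subgroup G) W := Subgroup.disjoint_of_coprime_natCard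
      (by rw [hP, hW]; norm_num)
    have hPW : (P : Subgroup G) ≤ W := fun x hx => hC (Subgroup.mem_centralizer_iff.2 fun u hu =>
      (Subgroup.commute_of_normal_of_disjoint _ _ hPn inferInstance hdis x u hx hu).eq.symm)
    have := Subgroup.card_dvd_of_le hPW
    rw [hP, hW] at this
    norm_num at this
  let ψ := MulAction.toPermHom G (Sylow 3 G)
  set K := ψ.ker with hK
  have hKN : K ≤ Subgroup.normalizer (P : Set G) := by
    intro x hx
    rw [← Sylow.smul_eq_iff_mem_normalizer]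
    exact Equiv.ext_iff.1 (MonoidHom.mem_ker.1 hx) P
  have hN6 : Nat.card (Subgroup.normalizer (P : Set G)) = 6 := by
    have h1 := (Subgroup.normalizer (P : Set G)).card_mul_index
    rw [← P.card_eq_index_normalizer, hn, hG] at h1
    omega
  have hKW : K ⊓ W = ⊥ := hcent _ inferInstance (by
    have h1 := (Subgroup.card_dvd_of_le ((inf_le_left : K ⊓ W ≤ K).trans hKN))
    have h2 := (Subgroup.card_dvd_of_le (inf_le_right : K ⊓ W ≤ W))
    rw [hN6] at h1
    rw [hW] at h2
    exact (show Nat.gcd 6 4 = 2 from rfl) ▸ Nat.dvd_gcd h1 h2)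
  have hKbot : K = ⊥ := by
    have hKC : K ≤ W := fun x hx => hC (Subgroup.mem_centralizer_iff.2 fun u hu =>
      (Subgroup.commute_of_normal_of_disjoint _ _ inferInstance inferInstance
        (disjoint_iff.2 hKW) x u hx hu).eq.symm)
    rwa [inf_eq_left.2 hKC] at hKW
  have hbij : Function.Bijective ψ := (Nat.bijective_iff_injective_and_card ψ).2
    ⟨(MonoidHom.ker_eq_bot_iff ψ).1 hKbot, by rw [Nat.card_perm, hn, hG]; rfl⟩
  exact ⟨(MulEquiv.ofBijective ψ hbij).trans (Finite.equivFinOfCardEq hn).permCongrHom⟩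

include T hF hH in
/-- A partition and an abelian normal subgroup. -/
theorem perm_four_of_abelian_normal (A : Subgroup G) [A.Normal] (hA : A ≠ ⊥)
    (hab : ∀ a ∈ A, ∀ b ∈ A, Commute a b) : Nonempty (G ≃* Equiv.Perm (Fin 4)) := by
  classical
  haveI : Nontrivial A := (Subgroup.nontrivial_iff_ne_bot A).2 hA
  obtain ⟨p, hp, hpd⟩ := Nat.exists_prime_and_dvd (Finite.one_lt_card (α := A)).ne'
  haveI := Fact.mk hp
  let W : Subgroup G :=
    { carrier := {x | x ∈ A ∧ x ^ p = 1}
      mul_mem' := fun {x y} hx hy => ⟨mul_mem hx.1 hy.1,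
        by rw [(hab x hx.1 y hy.1).mul_pow, hx.2, hy.2, one_mul]⟩
      one_mem' := ⟨one_mem _, one_pow p⟩
      inv_mem' := fun {x} hx => ⟨inv_mem hx.1, by rw [inv_pow, hx.2, inv_one]⟩ }
  have hWmem : ∀ {x : G}, x ∈ W → x ∈ A ∧ x ^ p = 1 := fun h => h
  haveI : W.Normal := ⟨fun x hx g => ⟨Subgroup.Normal.conj_mem inferInstance x (hWmem hx).1 g,
    by rw [conj_pow, (hWmem hx).2, mul_one, mul_inv_cancel]⟩⟩
  haveI : IsMulCommutative W := ⟨⟨fun x y => Subtype.ext (hab x (hWmem x.2).1 y (hWmem y.2).1).eq⟩⟩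
  obtain ⟨a₀, ha₀⟩ := exists_prime_orderOf_dvd_card' p hpd
  have ha₀W : (a₀ : G) ∈ W := ⟨a₀.2, by rw [← ha₀, ← Subgroup.orderOf_coe, pow_orderOf_eq_one]⟩
  have ha₀1 : (a₀ : G) ≠ 1 := fun e => by
    rw [show a₀ = 1 from Subtype.ext e, orderOf_one] at ha₀
    exact hp.one_lt.ne ha₀
  have hWne : W ≠ ⊥ := fun e => ha₀1 (Subgroup.mem_bot.1 (e ▸ ha₀W))
  have hnn : ∀ g : G, g ≠ 1 → ¬ (T.comp g).Normal := fun g hg => T.not_normal_comp hF hH hg
  have hsplit : ∀ g : G, g ≠ 1 → ∃ w ∈ W, w ∉ T.comp g := by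
    intro g hg
    by_contra hall
    push Not at hall
    refine hnn g hg (Subgroup.normalizer_eq_top_iff.1 (eq_top_iff.2 fun h _ => ?_))
    rw [show Subgroup.normalizer (T.comp g : Set G) = T.nor g from rfl,
      ← T.nor_eq_of_mem hg ha₀1 (hall _ ha₀W), T.mem_nor_iff ha₀1, T.eq_of_mem hg ha₀1 (hall _ ha₀W)]
    exact hall _ (Subgroup.Normal.conj_mem inferInstance _ ha₀W h)
  have hcen : ∀ c : G, (∀ w ∈ W, Commute c w) → c ^ p = 1 := by
    intro c hc
    by_cases hc1 : c = 1
    · rw [hc1, one_pow]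
    obtain ⟨w, hw, hwc⟩ := hsplit c hc1
    have hw1 : w ≠ 1 := fun e => hwc (e ▸ one_mem _)
    exact T.pow_prime_eq_one hp hw1 (hWmem hw).2 (hc w hw).symm fun e =>
      hwc (by rw [T.eq_of_mem hw1 hc1 e]; exact T.mem w)
  by_cases hfat : ∃ g w₀ : G, w₀ ∈ W ∧ w₀ ≠ 1 ∧ Commute g w₀ ∧ g ^ p ≠ 1
  · obtain ⟨g, w₀, hw₀, hw₀1, hgw, hg⟩ := hfat
    obtain ⟨hp2, hW4⟩ := T.fat_card hF W (fun a ha => (hWmem ha).2) hsplit hnn hw₀ hw₀1 hgw hg
    set C := Subgroup.centralizer (W : Set G) with hC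
    have hWC : W ≤ C := fun x hx => Subgroup.mem_centralizer_iff.2 fun u hu =>
      (hab u (hWmem hu).1 x (hWmem hx).1).eq
    have hCexp : ∀ c ∈ C, c ^ p = 1 := fun c hc =>
      hcen c fun w hw => (Subgroup.mem_centralizer_iff.1 hc w hw).symm
    haveI : IsMulCommutative C := ⟨⟨fun a b => Subtype.ext (by
      have h1 := hCexp _ (mul_mem a.2 b.2)
      have h2 := hCexp _ a.2
      have h3 := hCexp _ b.2
      rw [hp2, pow_two] at h1 h2 h3
      show (a : G) * b = b * a
      rw [← inv_eq_of_mul_eq_one_left h1, mul_inv_rev, inv_eq_of_mul_eq_one_left h2,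
        inv_eq_of_mul_eq_one_left h3])⟩⟩
    haveI : C.Normal := Subgroup.normal_centralizer
    obtain ⟨-, hC4⟩ := T.fat_card hF C hCexp
      (fun u hu => (hsplit u hu).imp fun w hw => ⟨hWC hw.1, hw.2⟩) hnn (hWC hw₀) hw₀1 hgw hg
    exact T.perm_four_of_klein hH W hW4 (Subgroup.eq_of_le_of_card_ge hWC (by rw [hC4, hW4])).ge
      hw₀ hw₀1 hgw (fun e => hg (hWmem e).2) fun a ha b hb => hab a (hWmem ha).1 b (hWmem hb).1
  exfalso
  push Not at hfat
  have hWp : IsPGroup p W := fun w => ⟨1, Subtype.ext (by simpa using (hWmem w.2).2)⟩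
  have hfix : ∀ {y : G} {k : ℕ}, y ^ p ^ k = 1 → ∃ z ∈ W, z ≠ 1 ∧ Commute y z := fun {y k} hk =>
    exists_fixed hWp hWne (fun w hw => Subgroup.Normal.conj_mem inferInstance w hw y) hk
  have h2 : ∀ g : G, g ^ p = 1 ∨ (orderOf g).Coprime p := by
    intro g
    by_contra hc
    push Not at hc
    obtain ⟨hc1, hc2⟩ := hc
    have hpd : p ∣ orderOf g := by
      by_contra h
      exact hc2 (hp.coprime_iff_not_dvd.2 h).symm
    set n := orderOf g with hn
    have hn0 : n ≠ 0 := (orderOf_pos g).ne'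
    set a := n.factorization p with ha
    set u := g ^ p ^ a with hu
    set y := g ^ (n / p) with hy
    have hyo : orderOf y = p := orderOf_pow_orderOf_div hn0 hpd
    have hy1 : y ≠ 1 := fun e => by rw [e, orderOf_one] at hyo; exact hp.one_lt.ne hyo
    have huo : (orderOf u).Coprime p := by
      rw [hu, orderOf_pow, ← hn, Nat.gcd_eq_right (Nat.ordProj_dvd n p)]
      exact (Nat.coprime_ordCompl hp hn0).symm
    have hu1 : u ≠ 1 := fun e => by
      obtain ⟨z, hz, hz1, hzg⟩ := hfix (k := a) e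
      exact hc1 (hfat g z hz hz1 hzg)
    have huy : Commute u y := ((Commute.refl g).pow_left _).pow_right _
    have hup : u ^ p ≠ 1 := fun e => hu1 (orderOf_eq_one_iff.1
      (Nat.eq_one_of_dvd_coprimes huo dvd_rfl (orderOf_dvd_of_pow_eq_one e)))
    have hne : orderOf y ≠ orderOf u := fun e => hup (by
      rw [← hyo, e, pow_orderOf_eq_one])
    have huy' : u ∈ T.comp y := T.mem_comp_of_commute hy1 huy.symm hne
    have hdis : ∀ z ∈ W, z ∈ T.comp y → z = 1 := by
      intro z hz hzy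
      by_contra hz1
      refine hup (hfat u z hz hz1 (CN.commute_of_coprime (T.isNilpotent hF hy1) huy' hzy ?_))
      exact huo.coprime_dvd_right (orderOf_dvd_of_pow_eq_one (hWmem hz).2)
    obtain ⟨z, hz, hz1, hzy⟩ := hfix (y := y) (k := 1) (by rw [pow_one, ← hyo, pow_orderOf_eq_one])
    have hv : z * u * z⁻¹ ∈ T.comp y := T.mem_comp_of_commute hy1
      (((hzy.symm.mul_left huy).mul_left hzy.symm.inv_left).symm)
      (by rw [Involutions.Basic.orderOf_conj]; exact hne)
    have h1 : z * u * z⁻¹ * u⁻¹ = 1 := by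
      refine hdis _ ?_ (mul_mem hv (inv_mem huy'))
      rw [show z * u * z⁻¹ * u⁻¹ = z * (u * z⁻¹ * u⁻¹) by group]
      exact mul_mem hz (Subgroup.Normal.conj_mem inferInstance _ (inv_mem hz) u)
    rw [mul_inv_eq_one, mul_inv_eq_iff_eq_mul] at h1
    exact hup (hfat u z hz hz1 (show Commute z u from h1).symm)
  haveI : Nontrivial W := (Subgroup.nontrivial_iff_ne_bot W).2 hWne
  obtain ⟨P⟩ : Nonempty (Sylow p G) := inferInstance
  haveI hPn : (P : Subgroup G).Normal := by
    refine sylow_normal (φ := (MulAut.conjNormal : G →* MulAut W))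
      (fun w => Subtype.ext (by simpa using (hWmem w.2).2)) ?_ h2 ?_ P
    · intro h hh hco w hw
      by_contra hw1
      have hc : Commute h (w : G) := mul_inv_eq_iff_eq_mul.1
        ((MulAut.conjNormal_apply h w).symm.trans (congrArg Subtype.val hw))
      exact hh (orderOf_eq_one_iff.1 (Nat.eq_one_of_dvd_coprimes hco dvd_rfl
        (orderOf_dvd_of_pow_eq_one (hfat h w w.2 (fun e => hw1 (Subtype.ext e)) hc))))
    · intro y hy w
      refine Subtype.ext ?_
      have h5 := mul_pow_eq_prod w y p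
      rw [hy, mul_one] at h5
      rw [← h5]
      show ((w : G) * y) ^ p = 1
      rcases h2 ((w : G) * y) with h | h
      · exact h
      have hyW : y ∈ W := by
        have h6 : (QuotientGroup.mk y : G ⧸ W) = QuotientGroup.mk ((w : G) * y) := by
          rw [QuotientGroup.mk_mul, (QuotientGroup.eq_one_iff (w : G)).2 w.2, one_mul]
        refine (QuotientGroup.eq_one_iff y).1 (orderOf_eq_one_iff.1 (Nat.eq_one_of_dvd_coprimes h
          (h6 ▸ orderOf_map_dvd (QuotientGroup.mk' W) _)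
          ((orderOf_map_dvd (QuotientGroup.mk' W) y).trans (orderOf_dvd_of_pow_eq_one hy))))
      exact (hWmem (mul_mem w.2 hyW)).2
  have hPexp : ∀ k ∈ (P : Subgroup G), k ^ p = 1 := by
    intro k hk
    rcases h2 k with h | h
    · exact h
    obtain ⟨m, hm⟩ := IsPGroup.iff_orderOf.1 P.2 ⟨k, hk⟩
    rw [Subgroup.orderOf_mk] at hm
    rw [orderOf_eq_one_iff.1 (Nat.eq_one_of_dvd_coprimes (h.pow_right m) dvd_rfl (dvd_of_eq hm)),
      one_pow]
  have hPtop : (P : Subgroup G) ≠ ⊤ := by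
    intro e
    have h1 : Subgroup.closure {g : G | g ^ p ≠ 1} = ⊥ := by
      rw [show {g : G | g ^ p ≠ 1} = ∅ from Set.eq_empty_of_forall_notMem fun g hg =>
        hg (hPexp g (e ▸ Subgroup.mem_top g)), Subgroup.closure_empty]
    exact hWne (Subgroup.eq_bot_iff_forall W |>.2 fun z _ =>
      Subgroup.mem_bot.1 ((h1.symm.trans (hH p hp)) ▸ Subgroup.mem_top z))
  have hWP : W ≤ (P : Subgroup G) := normal_le_sylow hWp P
  have hpP : p ∣ Nat.card P := by
    obtain ⟨m, hm⟩ := IsPGroup.iff_card.1 P.2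
    rcases m with _ | m
    · exact absurd (le_bot_iff.1 ((Subgroup.card_eq_one.1 (by simpa using hm)) ▸ hWP)) hWne
    · exact hm ▸ dvd_pow_self p m.succ_ne_zero
  obtain ⟨H, hHc⟩ := exists_isFrobeniusComplement (K := (P : Subgroup G))
    P.card_coprime_index (fun e => hWne (le_bot_iff.1 (e ▸ hWP))) hPtop fun k hk hk1 ρ hρ hρco hc => by
      have hρp : (orderOf ρ).Coprime p := hρco.coprime_dvd_right hpP
      have hkp := hPexp k hk
      rcases h2 (ρ * k) with h | h
      · rw [hc.symm.mul_pow, hkp, mul_one] at h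
        exact hρ (orderOf_eq_one_iff.1
          (Nat.eq_one_of_dvd_coprimes hρp dvd_rfl (orderOf_dvd_of_pow_eq_one h)) ▸ one_mem _)
      · have h6 : (ρ * k) ^ orderOf ρ = k ^ orderOf ρ := by
          rw [hc.symm.mul_pow, pow_orderOf_eq_one, one_mul]
        have h7 : k ^ orderOf ρ = 1 := orderOf_eq_one_iff.1 (Nat.eq_one_of_dvd_coprimes h
          (h6 ▸ orderOf_pow_dvd (orderOf ρ))
          (orderOf_dvd_of_pow_eq_one (by rw [← pow_mul, mul_comm, pow_mul, hkp, one_pow])))
        exact hk1 (orderOf_eq_one_iff.1 (Nat.eq_one_of_dvd_coprimes hρp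
          (orderOf_dvd_of_pow_eq_one h7) (orderOf_dvd_of_pow_eq_one hkp)))
  exact hF H hHc

end Part

end Cfsg.Agent.Partition
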