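import Cfsg.Agent.Lib.Partition.Fitting
import Cfsg.Agent.Lib.Partition.Count
import Cfsg.Agent.Lib.Involutions.Isolated
import Cfsg.Agent.Lib.Involutions.ThreePoint
import Cfsg.Agent.Lib.ZStar.Main
import Cfsg.Agent.InvChar.Core

/-!
# Groups with a partition and without abelian normal subgroups

The centraliser of an involution `t` is inside its component `X`, or an extension of the abelian
group `X` by an inverting involution. In all but one configuration the counting of `Count.lean`
applies.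
-/

set_option autoImplicit false
set_option linter.unusedSectionVars false
set_option linter.style.haveILetI false

open scoped Pointwise

namespace Cfsg.Agent.Partition

universe u

variable {G : Type u} [Group G] [Finite G]

/-- Without an abelian normal subgroup there is no solvable normal subgroup. -/
theorem normal_eq_bot (hA : ∀ A : Subgroup G, A.Normal → (∀ a ∈ A, ∀ b ∈ A, Commute a b) → A = ⊥)
    {N : Subgroup G} (hN : N.Normal) (hs : Group.IsSolvable N) : N = ⊥ := by
  classical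
  induction hn : Nat.card N using Nat.strong_induction_on generalizing N with
  | _ n ih =>
    by_contra hne
    haveI := hN
    haveI := hs
    haveI : Nontrivial N := (Subgroup.nontrivial_iff_ne_bot N).2 hne
    have hlt : ⁅N, N⁆ < N := by
      have h1 := Group.IsSolvable.commutator_lt_top_of_nontrivial (G := N)
      rw [← Subgroup.map_subtype_lt_map_subtype, ← MonoidHom.range_eq_map, Subgroup.range_subtype,
        Subgroup.map_subtype_commutator] at h1
      exact h1
    have hcard : Nat.card (⁅N, N⁆ : Subgroup G) < n := by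
      rw [← hn]
      exact lt_of_le_of_ne (Subgroup.card_le_of_le hlt.le) fun e =>
        hlt.ne (Subgroup.eq_of_le_of_card_ge hlt.le e.ge)
    haveI : Group.IsSolvable (⁅N, N⁆ : Subgroup G) :=
      Group.isSolvable_of_isSolvable_injective (Subgroup.inclusion_injective hlt.le)
    have hbot := ih _ hcard (N := ⁅N, N⁆) inferInstance inferInstance rfl
    exact hne (hA N hN fun a ha b hb => commutatorElement_eq_one_iff_mul_comm.1
      (Subgroup.mem_bot.1 (hbot ▸ Subgroup.commutator_mem_commutator ha hb)))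

/-- Without an abelian normal subgroup a nontrivial normal subgroup has even order. -/
theorem even_card_normal (hA : ∀ A : Subgroup G, A.Normal → (∀ a ∈ A, ∀ b ∈ A, Commute a b) → A = ⊥)
    {N : Subgroup G} (hN : N.Normal) (hne : N ≠ ⊥) : Even (Nat.card N) := by
  by_contra hodd
  exact hne (normal_eq_bot hA hN (Cfsg.Agent.S0205.result (Nat.not_even_iff_odd.1 hodd)))

/-- An isolated involution does not exist. -/
theorem not_isolated (hA : ∀ A : Subgroup G, A.Normal → (∀ a ∈ A, ∀ b ∈ A, Commute a b) → A = ⊥)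
    {z : G} (hz : Cfsg.IsIsolatedInvolution z) : False := by
  have hodd : Cfsg.oddCore G = ⊥ := normal_eq_bot hA inferInstance
    (Cfsg.Agent.S0205.result Agent.InvChar.Core.odd_card_oddCore)
  have hcen : ∀ g : G, Commute z g := fun g => by
    have h6 := Agent.ZStar.Main.commutator_mem_oddCore hz g
    rw [hodd, Subgroup.mem_bot, mul_inv_eq_one, mul_inv_eq_iff_eq_mul] at h6
    exact h6
  have h : Subgroup.center G = ⊥ := hA _ inferInstance fun a ha b _ =>
    (Subgroup.mem_center_iff.1 ha b).symm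
  refine Involutions.Basic.ne_one hz.1 (Subgroup.mem_bot.1 (h ▸ Subgroup.mem_center_iff.2 fun g => ?_))
  exact (hcen g).eq.symm

/-- The counting, for the normaliser of a subgroup. -/
theorem ti_cfg (Q : Subgroup G) (hne : Subgroup.normalizer (Q : Set G) ≠ ⊤)
    (hmem : ∀ s ∈ Subgroup.normalizer (Q : Set G), orderOf s = 2 → s ∈ Q)
    (hcent : ∀ s ∈ Q, orderOf s = 2 → ∀ g : G, Commute g s → g ∈ Q)
    (hconj : ∀ s ∈ Q, orderOf s = 2 → ∀ g : G, g * s * g⁻¹ ∈ Q → g ∈ Subgroup.normalizer (Q : Set G))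
    (hfix : Cfsg.IsStronglyEmbedded (Subgroup.normalizer (Q : Set G)) → ∀ x ∈ Q,
      ∀ g : G, g ∉ Subgroup.normalizer (Q : Set G) →
      g⁻¹ * x * g ∈ Subgroup.normalizer (Q : Set G) → x = 1)
    (htwo : ∃ x y : G, x ∈ Q ∧ y ∈ Q ∧ orderOf x = 2 ∧ orderOf y = 2 ∧ x ≠ y ∧ Commute x y) :
    TI.Cfg (Subgroup.normalizer (Q : Set G)) Q := by
  have hQM : Q ≤ Subgroup.normalizer (Q : Set G) := Subgroup.le_normalizer
  obtain ⟨x, y, hx, hy, hx2, hy2, hxy, hc⟩ := htwo
  have hse : Cfsg.IsStronglyEmbedded (Subgroup.normalizer (Q : Set G)) :=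
    Involutions.StronglyEmbedded.of_conj hne
      (even_iff_two_dvd.2 (hx2 ▸ Subgroup.orderOf_dvd_natCard _ (hQM hx)))
      fun t ht ht2 g hg => hconj t (hmem t ht ht2) ht2 g
        (hmem _ hg (by rw [Involutions.Basic.orderOf_conj, ht2]))
  exact
    { stronglyEmbedded := hse
      le := hQM
      conj_mem := fun g hg z hz => ((Subgroup.mem_normalizer_iff.1 hg) z).1 hz
      involution_mem := fun ht ht2 => hmem _ ht ht2
      mem_of_commute := fun ht ht2 hg => hcent _ ht ht2 _ hg
      fixed := fun hx hg h => hfix hse _ hx _ hg h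
      two := ⟨x, y, Involutions.Basic.ne_one hx2, Involutions.Basic.ne_one hy2, hxy,
        Involutions.Basic.inv_sq_one hx2, Involutions.Basic.inv_sq_one hy2, hc.eq, hQM hx, hQM hy⟩ }

namespace Part

variable (T : Part G)

/-- An involution outside a component inverts it when it normalises it. -/
theorem inverts {g y x : G} (hg : g ≠ 1) (hy : y ∈ T.nor g) (hyg : y ∉ T.comp g) (hy2 : orderOf y = 2)
    (hx : x ∈ T.comp g) : y * x * y⁻¹ = x⁻¹ := by
  have h : (y * x) * (y * x) = 1 :=
    Involutions.Basic.inv_sq_one (by rw [T.orderOf_mul_eq hg hy hyg hx, hy2])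
  rw [Involutions.Basic.inv_eq hy2]
  exact eq_inv_of_mul_eq_one_left (by rw [← h]; group)

/-- An element centralising an involution from outside its component is an involution. -/
theorem outside_two {t y : G} (ht : orderOf t = 2) (hc : Commute y t) (hy : y ∉ T.comp t) :
    orderOf y = 2 := by
  by_contra h
  exact hy (T.mem_comp_of_commute (Involutions.Basic.ne_one ht) hc.symm (by rw [ht]; exact Ne.symm h))

/-- The hypothesis that the centraliser of the involution `t` leaves its component, by `y`. -/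
structure Bad (t y : G) : Prop where
  ht : orderOf t = 2
  hc : Commute y t
  hy : y ∉ T.comp t

variable {T}
variable {t y : G}

theorem Bad.t_ne_one (h : T.Bad t y) : t ≠ 1 := Involutions.Basic.ne_one h.ht

theorem Bad.y_nor (h : T.Bad t y) : y ∈ T.nor t := T.mem_nor_of_commute h.t_ne_one h.hc

theorem Bad.y_two (h : T.Bad t y) : orderOf y = 2 := T.outside_two h.ht h.hc h.hy

theorem Bad.y_inverts (h : T.Bad t y) {x : G} (hx : x ∈ T.comp t) : y * x * y⁻¹ = x⁻¹ :=
  T.inverts h.t_ne_one h.y_nor h.hy h.y_two hx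

/-- The component is abelian. -/
theorem Bad.comm (h : T.Bad t y) {a b : G} (ha : a ∈ T.comp t) (hb : b ∈ T.comp t) : Commute a b := by
  have h1 : (a * b)⁻¹ = a⁻¹ * b⁻¹ := by
    rw [← h.y_inverts (mul_mem ha hb), ← h.y_inverts ha, ← h.y_inverts hb]
    group
  have h2 := congrArg (·⁻¹) h1
  simp only [inv_inv, mul_inv_rev] at h2
  exact h2

theorem Bad.commute_t (h : T.Bad t y) {a : G} (ha : a ∈ T.comp t) : Commute a t :=
  h.comm ha (T.mem t)

/-- The elements of a component with a larger exponent. -/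
theorem Bad.mul_mem_comp (h : T.Bad t y) {g₀ : G} (hg₀ : g₀ ∈ T.comp t) (hg₀2 : g₀ * g₀ ≠ 1) {z : G}
    (hz : Commute z t) (hzX : z ∉ T.comp t) : z * y ∈ T.comp t := by
  have hb : T.Bad t z := ⟨h.ht, hz, hzX⟩
  by_contra hnot
  have hg₀1 : g₀ ≠ 1 := fun e => hg₀2 (by rw [e, one_mul])
  have hzy1 : z * y ≠ 1 := fun e => hnot (e ▸ one_mem _)
  have ho : orderOf (z * y) = 2 := T.outside_two h.ht (hz.mul_left h.hc) hnot
  have hc : Commute (z * y) g₀ := mul_inv_eq_iff_eq_mul.1 (by
    calc z * y * g₀ * (z * y)⁻¹ = z * (y * g₀ * y⁻¹) * z⁻¹ := by group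
      _ = (z * g₀ * z⁻¹)⁻¹ := by rw [h.y_inverts hg₀]; group
      _ = g₀ := by rw [hb.y_inverts hg₀, inv_inv])
  have hcomp : T.comp (z * y) ≠ T.comp g₀ := fun e => hnot (by
    rw [← T.eq_of_mem h.t_ne_one hg₀1 hg₀, ← e]
    exact T.mem _)
  refine hg₀2 ?_
  rw [← pow_two]
  have h5 := (T.orderOf_eq_of_commute hzy1 hg₀1 hc hcomp).1
  rw [ho] at h5
  rw [h5, pow_orderOf_eq_one]

/-- The centraliser of an involution with a component of larger exponent. -/
theorem Bad.commute_iff (h : T.Bad t y) {g₀ : G} (hg₀ : g₀ ∈ T.comp t) (hg₀2 : g₀ * g₀ ≠ 1) {z : G} :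
    Commute z t ↔ z ∈ T.comp t ∨ z * y ∈ T.comp t := by
  refine ⟨fun hz => ?_, ?_⟩
  · by_cases hzX : z ∈ T.comp t
    · exact Or.inl hzX
    · exact Or.inr (h.mul_mem_comp hg₀ hg₀2 hz hzX)
  · rintro (hz | hz)
    · exact h.commute_t hz
    · have h1 := (h.commute_t hz).mul_left h.hc.inv_left
      rwa [mul_inv_cancel_right] at h1

/-- The same centraliser, for another involution of the component. -/
theorem Bad.of_mem (h : T.Bad t y) {w : G} (hw : w ∈ T.comp t) (hw2 : orderOf w = 2) : T.Bad w y := by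
  have hw1 := Involutions.Basic.ne_one hw2
  refine ⟨hw2, mul_inv_eq_iff_eq_mul.1 ?_, ?_⟩
  · rw [h.y_inverts hw, Involutions.Basic.inv_eq hw2]
  · rw [T.eq_of_mem h.t_ne_one hw1 hw]; exact h.hy

variable (T)

theorem nor_ne_top (hF : ∀ H : Subgroup G, ¬ Cfsg.IsFrobeniusComplement H)
    (hA : ∀ A : Subgroup G, A.Normal → (∀ a ∈ A, ∀ b ∈ A, Commute a b) → A = ⊥) {g : G} (hg : g ≠ 1) :
    T.nor g ≠ ⊤ := by
  intro e
  haveI := T.isNilpotent hF hg
  exact T.ne_bot hg (normal_eq_bot hA (Subgroup.normalizer_eq_top_iff.1 e) inferInstance)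

include T in
/-- The centralisers of involutions are solvable. -/
theorem isSolvable_centralizer (hF : ∀ H : Subgroup G, ¬ Cfsg.IsFrobeniusComplement H) {t : G}
    (ht : orderOf t = 2) : Group.IsSolvable (Subgroup.centralizer ({t} : Set G)) := by
  have ht1 := Involutions.Basic.ne_one ht
  set C := Subgroup.centralizer ({t} : Set G)
  set X := (T.comp t).subgroupOf C with hX
  haveI : Group.IsNilpotent (T.comp t) := T.isNilpotent hF ht1
  haveI : Group.IsSolvable X :=
    Group.isSolvable_of_isSolvable_injective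
      (f := (C.subtype.comp X.subtype).codRestrict (T.comp t) fun x => x.2)
      (fun a b hab => Subtype.ext (Subtype.ext (congrArg (fun z : T.comp t => (z : G)) hab)))
  haveI : X.Normal := ⟨fun x hx c => by
    rw [hX, Subgroup.mem_subgroupOf] at hx ⊢
    exact (T.conj_mem_nor (T.mem_nor_of_commute ht1
      (Subgroup.mem_centralizer_singleton_iff.1 c.2 : Commute (c : G) t))).2 hx⟩
  have hexp : ∀ q : C ⧸ X, q * q = 1 := by
    intro q
    obtain ⟨c, rfl⟩ := QuotientGroup.mk_surjective q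
    rw [← QuotientGroup.mk_mul, QuotientGroup.eq_one_iff, hX, Subgroup.mem_subgroupOf, Subgroup.coe_mul]
    by_cases hc : (c : G) ∈ T.comp t
    · exact mul_mem hc hc
    · rw [Involutions.Basic.inv_sq_one
        (T.outside_two ht (Subgroup.mem_centralizer_singleton_iff.1 c.2) hc)]
      exact one_mem _
  haveI : Group.IsSolvable (C ⧸ X) := Group.isSolvable_of_comm fun a b => by
    rw [← inv_eq_of_mul_eq_one_left (hexp (a * b)), mul_inv_rev, inv_eq_of_mul_eq_one_left (hexp a),
      inv_eq_of_mul_eq_one_left (hexp b)]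
  exact (Group.isSolvable_iff_subgroup_quotient X).2 ⟨inferInstance, inferInstance⟩

/-- An element of odd prime order cannot lie in a component and normalise another one which is
interchanged with it by an involution. -/
theorem false_of_swap {t g u z : G} {p : ℕ} (ht1 : t ≠ 1) (hne : T.comp t ≠ T.comp (g * t * g⁻¹))
    (hu : orderOf u = 2) (hu1 : u⁻¹ * g ∈ T.nor t) (hzX : z ∈ T.comp t)
    (hzs : z ∈ T.nor (g * t * g⁻¹)) (hzo : orderOf z = p) (hp : p.Prime) (hodd : Odd p) : False := by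
  have hs1 : g * t * g⁻¹ ≠ 1 := fun e => ht1 (conj_eq_one_iff.1 e)
  have hz1 : z ≠ 1 := fun e => hp.one_lt.ne (by rw [← hzo, e, orderOf_one])
  set s := g * t * g⁻¹ with hs
  have huu := Involutions.Basic.inv_sq_one hu
  have hui := Involutions.Basic.inv_eq hu
  have hut : ∀ {a : G}, a ∈ T.comp t → u * a * u⁻¹ ∈ T.comp s := by
    intro a ha
    have h1 := (T.conj g t _).1 ((T.conj_mem_nor (inv_mem hu1)).2 ha)
    have e : g * ((u⁻¹ * g)⁻¹ * a * (u⁻¹ * g)⁻¹⁻¹) * g⁻¹ = u * a * u⁻¹ := by group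
    rwa [e] at h1
  have hus : ∀ {a : G}, a ∈ T.comp s → u * a * u⁻¹ ∈ T.comp t := by
    intro a ha
    have h0 : g⁻¹ * a * g ∈ T.comp t := by
      rw [T.conj g t _, show g * (g⁻¹ * a * g) * g⁻¹ = a by group]
      exact ha
    have h1 := (T.conj_mem_nor hu1).2 h0
    have e : u⁻¹ * g * (g⁻¹ * a * g) * (u⁻¹ * g)⁻¹ = u⁻¹ * a * u := by group
    rw [e, hui] at h1
    rw [hui]
    exact h1
  have huinv : ∀ a : G, u * (u * a * u⁻¹) * u⁻¹ = a := by
    intro a
    rw [hui]
    calc u * (u * a * u) * u = u * u * a * (u * u) := by group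
      _ = a := by rw [huu]; group
  set w := u * z * u⁻¹ with hw
  have hwY : w ∈ T.comp s := hut hzX
  have hwX : w ∈ T.nor t := by
    rw [T.mem_nor_iff ht1]
    have h1 : u * t * u⁻¹ ∈ T.comp s := hut (T.mem t)
    have h2 := hus ((T.conj_mem_nor hzs).2 h1)
    have e : u * (z * (u * t * u⁻¹) * z⁻¹) * u⁻¹ = w * t * w⁻¹ := by
      rw [hw, hui]
      calc u * (z * (u * t * u) * z⁻¹) * u = u * z * u * t * (u * z⁻¹ * u) := by group
        _ = u * z * u * t * (u⁻¹ * z⁻¹ * u⁻¹) := by rw [hui]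
        _ = _ := by rw [show (u * z * u)⁻¹ = u⁻¹ * z⁻¹ * u⁻¹ by group]
    rwa [e] at h2
  have hcomm : Commute z w := by
    have h1 : z * w * z⁻¹ * w⁻¹ = 1 := by
      refine T.eq_one_of_mem_of_mem ht1 hs1 hne ?_
        (mul_mem ((T.conj_mem_nor hzs).2 hwY) (inv_mem hwY))
      rw [show z * w * z⁻¹ * w⁻¹ = z * (w * z⁻¹ * w⁻¹) by group]
      exact mul_mem hzX ((T.conj_mem_nor hwX).2 (inv_mem hzX))
    rw [mul_inv_eq_one, mul_inv_eq_iff_eq_mul] at h1
    exact h1
  have hwo : orderOf w = p := by rw [hw, Involutions.Basic.orderOf_conj, hzo]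
  set k := z * w with hk
  set j := z * w⁻¹ with hj
  have hk1 : k ≠ 1 := fun e => by
    have h5 : z ∈ T.comp s := by rw [eq_inv_of_mul_eq_one_left e]; exact inv_mem hwY
    exact hz1 (T.eq_one_of_mem_of_mem ht1 hs1 hne hzX h5)
  have hko : orderOf k = p := by
    haveI := Fact.mk hp
    refine orderOf_eq_prime ?_ hk1
    rw [hk, hcomm.mul_pow, ← hzo, pow_orderOf_eq_one, one_mul, hzo, ← hwo, pow_orderOf_eq_one]
  have huk : Commute u k := mul_inv_eq_iff_eq_mul.1 (by
    rw [show u * k * u⁻¹ = (u * z * u⁻¹) * (u * w * u⁻¹) by rw [hk]; group, ← hw, hw, huinv, ← hw, hk]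
    exact hcomm.eq.symm)
  have hjk : Commute j k := by
    rw [hk, hj]
    exact ((Commute.refl z).mul_right hcomm).mul_left ((hcomm.symm.mul_right (Commute.refl w)).inv_left)
  have hp2 : p ≠ 2 := fun e => by rw [e] at hodd; exact absurd hodd (by decide)
  have huK : u ∈ T.comp k := T.mem_comp_of_commute hk1 huk.symm (by rw [hko, hu]; exact hp2)
  have hjuK : j * u * j⁻¹ ∈ T.comp k := T.mem_comp_of_commute hk1
    ((hjk.mul_left huk).mul_left hjk.inv_left).symm
    (by rw [hko, Involutions.Basic.orderOf_conj, hu]; exact hp2)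
  have huj : u * j * u⁻¹ = j⁻¹ := by
    rw [show u * j * u⁻¹ = (u * z * u⁻¹) * (u * w * u⁻¹)⁻¹ by rw [hj]; group, ← hw, hw, huinv, ← hw, hj,
      mul_inv_rev, inv_inv]
  have hj2 : j * j ∈ T.comp k := by
    have h1 : j * u * j⁻¹ * u⁻¹ ∈ T.comp k := mul_mem hjuK (inv_mem huK)
    rwa [show j * u * j⁻¹ * u⁻¹ = j * (u * j * u⁻¹)⁻¹ by group, huj, inv_inv] at h1
  have hjp : j ^ p = 1 := by
    rw [hj, hcomm.inv_right.mul_pow, inv_pow]
    rw [show z ^ p = 1 by rw [← hzo, pow_orderOf_eq_one],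
      show w ^ p = 1 by rw [← hwo, pow_orderOf_eq_one], inv_one, one_mul]
  have hjK : j ∈ T.comp k := by
    obtain ⟨m, hm⟩ := hodd
    have h1 := pow_mem hj2 (m + 1)
    rwa [← pow_two, ← pow_mul, show 2 * (m + 1) = p + 1 by omega, pow_succ, hjp, one_mul] at h1
  have hsqK : ∀ {a : G}, a ^ p = 1 → a * a ∈ T.comp k → a ∈ T.comp k := by
    intro a ha ha2
    obtain ⟨m, hm⟩ := hodd
    have h1 := pow_mem ha2 (m + 1)
    rwa [← pow_two, ← pow_mul, show 2 * (m + 1) = p + 1 by omega, pow_succ, ha, one_mul] at h1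
  have hzK : z ∈ T.comp k := hsqK (by rw [← hzo, pow_orderOf_eq_one]) (by
    have h1 := mul_mem (T.mem k) hjK
    rwa [show k * j = z * z by rw [hk, hj, mul_assoc, ← mul_assoc w, ← hcomm.eq]; group] at h1)
  have hw1 : w ≠ 1 := fun e => hp.one_lt.ne (by rw [← hwo, e, orderOf_one])
  have hwK : w ∈ T.comp k := by
    have h1 := mul_mem (inv_mem hzK) (T.mem k)
    rwa [hk, inv_mul_cancel_left] at h1
  exact hne (((T.eq_of_mem ht1 hz1 hzX).symm.trans (T.eq_of_mem hk1 hz1 hzK)).trans
    ((T.eq_of_mem hk1 hw1 hwK).symm.trans (T.eq_of_mem hs1 hw1 hwY)))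

/-- The first case: the centraliser of every involution lies in its component. -/
theorem case_tight (hF : ∀ H : Subgroup G, ¬ Cfsg.IsFrobeniusComplement H)
    (hA : ∀ A : Subgroup G, A.Normal → (∀ a ∈ A, ∀ b ∈ A, Commute a b) → A = ⊥)
    {t : G} (ht : orderOf t = 2)
    (hall : ∀ s y : G, ¬ T.Bad s y) :
    TI.Cfg (T.nor t) (T.comp t) := by
  classical
  have ht1 := Involutions.Basic.ne_one ht
  have hcent : ∀ s g : G, orderOf s = 2 → Commute g s → g ∈ T.comp s := fun s g hs hg =>
    by_contra fun h => hall s g ⟨hs, hg, h⟩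
  have hno : ∀ {a s : G}, a ≠ 1 → orderOf s = 2 → s ∈ T.nor a → ∀ {w : G}, orderOf w = 2 → w ∈ T.comp a →
      s ∈ T.comp a := by
    intro a s ha hs hsn w hw hwa
    by_contra hsa
    have h := T.inverts ha hsn hsa hs hwa
    rw [Involutions.Basic.inv_eq hw, mul_inv_eq_iff_eq_mul] at h
    exact hsa (T.eq_of_mem ha (Involutions.Basic.ne_one hw) hwa ▸ hcent w s hw h)
  have hmem : ∀ s ∈ T.nor t, orderOf s = 2 → s ∈ T.comp t := fun s hs hs2 =>
    hno ht1 hs2 hs ht (T.mem t)
  refine ti_cfg (T.comp t) (T.nor_ne_top hF hA ht1) hmem ?_ ?_ ?_ ?_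
  · intro s hs hs2 g hg
    exact T.eq_of_mem ht1 (Involutions.Basic.ne_one hs2) hs ▸ hcent s g hs2 hg
  · intro s hs hs2 g hg
    have hs1 := Involutions.Basic.ne_one hs2
    show g ∈ T.nor t
    rw [← T.nor_eq_of_mem ht1 hs1 hs, T.mem_nor_iff hs1, T.eq_of_mem ht1 hs1 hs]
    exact hg
  · -- no element of the component fixes a second point
    intro hse x hx g hg hgx
    change g ∉ T.nor t at hg
    change g⁻¹ * x * g ∈ T.nor t at hgx
    by_contra hx1
    set s := g * t * g⁻¹ with hs
    have hs2 : orderOf s = 2 := by rw [hs, Involutions.Basic.orderOf_conj, ht]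
    have hs1 := Involutions.Basic.ne_one hs2
    have hne : T.comp t ≠ T.comp s := fun e => hg ((T.mem_nor_iff ht1).2 (by rw [e]; exact T.mem s))
    have hxs : x ∈ T.nor s := by
      rw [T.mem_nor_iff hs1, hs]
      have h1 := (T.conj g t _).1 ((T.mem_nor_iff ht1).1 hgx)
      have e : g * (g⁻¹ * x * g * t * (g⁻¹ * x * g)⁻¹) * g⁻¹ = x * (g * t * g⁻¹) * x⁻¹ := by group
      rwa [e] at h1
    have hnotY : ∀ k : ℕ, x ^ k ∈ T.comp s → x ^ k = 1 := fun k hk =>
      T.eq_one_of_mem_of_mem ht1 hs1 hne (pow_mem hx k) hk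
    -- a power of prime order
    obtain ⟨p, hp, hpd⟩ := Nat.exists_prime_and_dvd (show orderOf x ≠ 1 by simpa using hx1)
    set z := x ^ (orderOf x / p) with hz
    have hzo : orderOf z = p := orderOf_pow_orderOf_div (orderOf_pos x).ne' hpd
    have hz1 : z ≠ 1 := fun e => hp.one_lt.ne (by rw [← hzo, e, orderOf_one])
    have hzX : z ∈ T.comp t := pow_mem hx _
    have hzs : z ∈ T.nor s := pow_mem hxs _
    rcases hp.eq_two_or_odd' with h2 | hodd
    · exact hz1 (hnotY _ (hno hs1 (hzo.trans h2) hzs hs2 (T.mem s)))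
    -- an involution interchanging the two components
    set M := T.nor t with hM
    have hb : ((1 : G) : G ⧸ M) ≠ (g : G ⧸ M) := by
      rw [Ne, QuotientGroup.eq, inv_one, one_mul]
      exact hg
    have hcard := Involutions.StronglyEmbedded.card_swap hse _ _ hb
    haveI : Nonempty {i : G // orderOf i = 2 ∧ i ∈ M} := ⟨⟨t, ht, Subgroup.le_normalizer (T.mem t)⟩⟩
    obtain ⟨⟨u, hu, hu1⟩⟩ := (Nat.card_pos_iff.1 (hcard ▸ Nat.card_pos :
      0 < Nat.card {i : G // orderOf i = 2 ∧ i • ((1 : G) : G ⧸ M) = (g : G ⧸ M)})).1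
    rw [MulAction.Quotient.smul_coe, smul_eq_mul, mul_one, QuotientGroup.eq] at hu1
    exact T.false_of_swap ht1 hne hu hu1 hzX hzs hzo hp hodd
  · -- two commuting involutions
    by_contra hno2
    push Not at hno2
    have honly : ∀ s ∈ T.comp t, orderOf s = 2 → s = t := by
      intro s hs hs2
      by_contra hne
      haveI : Group.IsNilpotent (T.comp t) := T.isNilpotent hF ht1
      rcases Nat.even_or_odd (orderOf (s * t)) with he | ho
      · obtain ⟨hm2, hms, -⟩ := Involutions.Basic.middle_involution hs2 ht he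
        refine hno2 s ((s * t) ^ (orderOf (s * t) / 2)) hs (pow_mem (mul_mem hs (T.mem t)) _) hs2 hm2
          (fun e => Involutions.Basic.notMem_zpowers_left hs2 ht hne ?_) hms.symm
        exact Subgroup.mem_zpowers_iff.2 ⟨_, (zpow_natCast (s * t) _).trans e.symm⟩
      · obtain ⟨d, hd, hdt⟩ := Involutions.Basic.exists_conj_of_odd hs2 ht ho
        have hdo : (orderOf d).Coprime (orderOf s) := by
          rw [hs2]
          exact Nat.coprime_two_right.2 (Odd.of_dvd_nat ho (orderOf_dvd_of_mem_zpowers hd))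
        have hc : d * s = s * d := CN.commute_of_coprime (T.isNilpotent hF ht1)
          ((Subgroup.zpowers_le.2 (mul_mem hs (T.mem t))) hd) hs hdo
        rw [hc, mul_inv_cancel_right] at hdt
        exact hne hdt
    refine not_isolated hA (z := t) ⟨ht, fun g hg => ?_⟩
    exact honly _ (hcent t _ ht hg.symm) (by rw [Involutions.Basic.orderOf_conj, ht])

/-- The second case: every component of an involution with an outside commuting element has
exponent two. -/
theorem case_elementary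
    (hA : ∀ A : Subgroup G, A.Normal → (∀ a ∈ A, ∀ b ∈ A, Commute a b) → A = ⊥)
    (hall : ∀ s z : G, T.Bad s z → ∀ g ∈ T.comp s, g * g = 1) {t y : G} (h : T.Bad t y) :
    TI.Cfg (Subgroup.normalizer ((Subgroup.centralizer ({t} : Set G)) : Set G))
      (Subgroup.centralizer ({t} : Set G)) := by
  set A := Subgroup.centralizer ({t} : Set G) with hAdef
  have hAmem : ∀ {g : G}, g ∈ A ↔ Commute g t := Subgroup.mem_centralizer_singleton_iff
  -- centralisers of such involutions are elementary abelian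
  have hexp : ∀ {s z : G}, T.Bad s z → ∀ g : G, Commute g s → g * g = 1 := by
    intro s z hs g hg
    by_cases hgs : g ∈ T.comp s
    · exact hall s z hs g hgs
    · exact Involutions.Basic.inv_sq_one (T.outside_two hs.ht hg hgs)
  have hcomm : ∀ {s z : G}, T.Bad s z → ∀ a b : G, Commute a s → Commute b s → Commute a b := by
    intro s z hs a b ha hb
    have h1 := hexp hs _ (ha.mul_left hb)
    show a * b = b * a
    rw [← inv_eq_of_mul_eq_one_left h1, mul_inv_rev, inv_eq_of_mul_eq_one_left (hexp hs a ha),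
      inv_eq_of_mul_eq_one_left (hexp hs b hb)]
  have htA : t ∈ A := hAmem.2 (Commute.refl t)
  have hyA : y ∈ A := hAmem.2 h.hc
  have htwo : ∀ {a : G}, a ∈ A → a ≠ 1 → orderOf a = 2 := fun ha ha1 =>
    Involutions.Basic.orderOf_two_iff.2 ⟨hexp h _ (hAmem.1 ha), ha1⟩
  -- an element of the centraliser has the same centraliser
  have hkey : ∀ {a g : G}, a ∈ A → a ≠ 1 → Commute g a → g ∈ A := by
    intro a g ha ha1 hg
    obtain ⟨b, hbA, hb⟩ : ∃ b ∈ A, b ∉ T.comp a := by
      by_contra hall'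
      push Not at hall'
      have e1 := T.eq_of_mem ha1 h.t_ne_one (hall' t htA)
      exact h.hy (e1 ▸ hall' y hyA)
    have hbad : T.Bad a b := ⟨htwo ha ha1, hcomm h b a (hAmem.1 hbA) (hAmem.1 ha), hb⟩
    exact hAmem.2 (hcomm hbad g t hg (hAmem.1 ha).symm)
  have hAp : IsPGroup 2 A := fun a => ⟨1, Subtype.ext (by simpa [pow_two] using hexp h a (hAmem.1 a.2))⟩
  have hAne : A ≠ ⊥ := fun e => h.t_ne_one (Subgroup.mem_bot.1 (e ▸ htA))
  haveI : Fact (Nat.Prime 2) := ⟨Nat.prime_two⟩
  have hmem : ∀ s ∈ Subgroup.normalizer (A : Set G), orderOf s = 2 → s ∈ A := by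
    intro s hs hs2
    obtain ⟨a, ha, ha1, hsa⟩ := exists_fixed hAp hAne
      (fun a ha => ((Subgroup.mem_normalizer_iff.1 hs) a).1 ha) (k := 1)
      (by rw [pow_one, ← hs2, pow_orderOf_eq_one])
    exact hkey ha ha1 hsa
  refine ti_cfg A ?_ hmem (fun s hs hs2 g hg => hkey hs (Involutions.Basic.ne_one hs2) hg) ?_ ?_ ?_
  · intro e
    exact hAne (hA A (Subgroup.normalizer_eq_top_iff.1 e) fun a ha b hb =>
      hcomm h a b (hAmem.1 ha) (hAmem.1 hb))
  · intro s hs hs2 g hg
    have hs1 := Involutions.Basic.ne_one hs2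
    have hg1 : g * s * g⁻¹ ≠ 1 := fun e => hs1 (conj_eq_one_iff.1 e)
    rw [Subgroup.mem_normalizer_iff]
    intro a
    constructor
    · intro ha
      refine hkey hg hg1 ?_
      exact (hcomm h a s (hAmem.1 ha) (hAmem.1 hs)).map (MulAut.conj g).toMonoidHom
    · intro ha
      refine hkey hs hs1 ?_
      have h1 := (hcomm h _ _ (hAmem.1 ha) (hAmem.1 hg)).map (MulAut.conj g⁻¹).toMonoidHom
      simpa [mul_assoc] using h1
  · intro _ x hx g hg hgx
    by_contra hx1
    have hx2 := htwo hx hx1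
    have hy2 : orderOf (g⁻¹ * x * g) = 2 := by
      simpa using (Involutions.Basic.orderOf_conj g⁻¹ x).trans hx2
    have hyA' := hmem _ hgx hy2
    refine hg ?_
    rw [Subgroup.mem_normalizer_iff]
    intro a
    constructor
    · intro ha
      refine hkey hx hx1 ?_
      have h1 := (hcomm h a _ (hAmem.1 ha) (hAmem.1 hyA')).map (MulAut.conj g).toMonoidHom
      simpa [mul_assoc] using h1
    · intro ha
      refine hkey hyA' (Involutions.Basic.ne_one hy2) ?_
      have h1 := (hcomm h _ x (hAmem.1 ha) (hAmem.1 hx)).map (MulAut.conj g⁻¹).toMonoidHom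
      simpa [mul_assoc] using h1
  · exact ⟨t, y, htA, hyA, h.ht, h.y_two, fun e => h.hy (e ▸ T.mem t), h.hc.symm⟩

/-- A bad involution with a component of larger exponent, whose centraliser contains a Sylow
2-subgroup. -/
theorem exists_sylow_bad {t y g₀ : G} (h : T.Bad t y) (hg₀ : g₀ ∈ T.comp t) (hg₀2 : g₀ * g₀ ≠ 1) :
    ∃ (t' y' g' : G) (P : Sylow 2 G), T.Bad t' y' ∧ g' ∈ T.comp t' ∧ g' * g' ≠ 1 ∧
      t' ∈ (P : Subgroup G) ∧ y' ∈ (P : Subgroup G) ∧ ∀ s ∈ (P : Subgroup G), Commute s t' := by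
  haveI : Fact (Nat.Prime 2) := ⟨Nat.prime_two⟩
  have hy2 := h.y_two
  have hp : IsPGroup 2 ↥(Subgroup.closure ({y, t} : Set G)) := by
    intro x
    refine ⟨1, Subtype.ext ?_⟩
    push_cast
    rw [pow_two]
    obtain ⟨k, hk | hk⟩ := (Involutions.Basic.mem_closure_pair hy2 h.ht).1 x.2
    · rw [hk, ← zpow_add, show k + k = 2 * k by ring, zpow_mul, zpow_two,
        h.hc.symm.mul_mul_mul_comm, Involutions.Basic.inv_sq_one hy2, Involutions.Basic.inv_sq_one h.ht,
        one_mul, one_zpow]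
    · rw [hk]; exact Involutions.Basic.sq_of_mul_zpow hy2 h.ht k
  obtain ⟨P, hP⟩ := hp.exists_le_sylow
  have hyP : y ∈ (P : Subgroup G) := hP (Subgroup.subset_closure (Set.mem_insert _ _))
  have htP : t ∈ (P : Subgroup G) := hP (Subgroup.subset_closure (Set.mem_insert_of_mem _ rfl))
  haveI : Nontrivial (P : Subgroup G) :=
    ⟨⟨⟨t, htP⟩, 1, fun e => h.t_ne_one (congrArg Subtype.val e)⟩⟩
  haveI := P.2.center_nontrivial
  obtain ⟨z', hz'⟩ : ∃ z : Subgroup.center (P : Subgroup G), orderOf z = 2 := by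
    obtain ⟨n, hn, hc⟩ :=
      (P.2.to_subgroup (Subgroup.center (P : Subgroup G))).nontrivial_iff_card.1 inferInstance
    exact exists_prime_orderOf_dvd_card' 2 (hc ▸ dvd_pow_self 2 (by omega))
  set z : G := ((z' : (P : Subgroup G)) : G) with hz
  have hzo : orderOf z = 2 := by rw [hz, Subgroup.orderOf_coe, Subgroup.orderOf_coe, hz']
  have hzc : ∀ s ∈ (P : Subgroup G), Commute s z := fun s hs =>
    congrArg Subtype.val (Subgroup.mem_center_iff.1 z'.2 ⟨s, hs⟩)
  have hzt : Commute z t := (hzc t htP).symm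
  by_cases hzX : z ∈ T.comp t
  · have hz1 := Involutions.Basic.ne_one hzo
    refine ⟨z, y, g₀, P, ⟨hzo, hzc y hyP, ?_⟩, ?_, hg₀2, (z' : (P : Subgroup G)).2, hyP, hzc⟩
    · rw [T.eq_of_mem h.t_ne_one hz1 hzX]; exact h.hy
    · rw [T.eq_of_mem h.t_ne_one hz1 hzX]; exact hg₀
  have hbad : T.Bad z t := ⟨hzo, hzt.symm, fun e => hzX (by
    rw [T.eq_of_mem (Involutions.Basic.ne_one hzo) h.t_ne_one e]; exact T.mem z)⟩
  by_cases hbig : ∃ g ∈ T.comp z, g * g ≠ 1
  · obtain ⟨g, hg, hg2⟩ := hbig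
    exact ⟨z, t, g, P, hbad, hg, hg2, (z' : (P : Subgroup G)).2, htP, hzc⟩
  push Not at hbig
  have hexp : ∀ g : G, Commute g z → g * g = 1 := fun g hg => by
    by_cases hgz : g ∈ T.comp z
    · exact hbig g hgz
    · exact Involutions.Basic.inv_sq_one (T.outside_two hzo hg hgz)
  refine ⟨t, y, g₀, P, h, hg₀, hg₀2, htP, hyP, fun s hs => ?_⟩
  have h1 := hexp _ ((hzc s hs).mul_left (hzc t htP))
  show s * t = t * s
  rw [← inv_eq_of_mul_eq_one_left h1, mul_inv_rev, inv_eq_of_mul_eq_one_left (hexp s (hzc s hs)),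
    Involutions.Basic.inv_eq h.ht]

/-- A component of larger exponent contains just one involution. -/
theorem unique_involution
    {t y g₀ : G} {P : Sylow 2 G} (h : T.Bad t y) (hg₀ : g₀ ∈ T.comp t) (hg₀2 : g₀ * g₀ ≠ 1)
    (hyP : y ∈ (P : Subgroup G))
    (hP : ∀ s ∈ (P : Subgroup G), Commute s t) (hnor : T.nor t ≠ ⊤)
    {w : G} (hw : w ∈ T.comp t) (hw2 : orderOf w = 2) : w = t := by
  classical
  by_contra hwt
  set X := T.comp t with hX
  have ht1 := h.t_ne_one
  have hΩ : ∀ {a : G}, a ∈ X → orderOf a = 2 → T.Bad a y ∧ T.comp a = X := fun ha ha2 =>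
    ⟨h.of_mem ha ha2, T.eq_of_mem ht1 (Involutions.Basic.ne_one ha2) ha⟩
  -- the involutions of the other coset have elementary centralisers
  have hout : ∀ {s : G}, Commute s t → s ∉ X → ∀ g : G, Commute g s → g * g = 1 := by
    intro s hs hsX
    have hso := T.outside_two h.ht hs hsX
    have hs1 := Involutions.Basic.ne_one hso
    have htout : ∀ {a : G}, a ∈ X → orderOf a = 2 → a ∉ T.comp s := fun ha ha2 e => hsX (by
      have h1 := T.mem s
      rw [← T.eq_of_mem hs1 (Involutions.Basic.ne_one ha2) e, (hΩ ha ha2).2] at h1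
      exact h1)
    have hbad : T.Bad s t := ⟨hso, hs.symm, htout (T.mem t) h.ht⟩
    have hws : Commute w s := by
      have := T.inverts ht1 (T.mem_nor_of_commute ht1 hs) hsX hso hw
      rw [Involutions.Basic.inv_eq hw2, mul_inv_eq_iff_eq_mul] at this
      exact Commute.symm this
    intro g hg
    by_cases hgs : g ∈ T.comp s
    · by_contra hg2
      have h1 := hbad.mul_mem_comp hgs hg2 hws (htout hw hw2)
      have h2 := T.eq_one_of_mem_of_mem ht1 hs1 (fun e => hsX (by rw [hX, e]; exact T.mem s))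
        (mul_mem hw (T.mem t)) h1
      exact hwt (by rw [eq_inv_of_mul_eq_one_left h2, Involutions.Basic.inv_eq h.ht])
    · exact Involutions.Basic.inv_sq_one (T.outside_two hso hg hgs)
  have hin : ∀ {a : G}, a ∈ X → orderOf a = 2 → Commute g₀ a := fun ha _ => h.comm hg₀ ha
  have hnf : ∀ {a b g : G}, a ∈ X → orderOf a = 2 → g * a * g⁻¹ = b → Commute b t → b ∈ X := by
    intro a b g ha ha2 hgb hbt
    by_contra hbX
    have h1 := hout hbt hbX _ ((hin ha ha2).map (MulAut.conj g).toMonoidHom |> fun h2 => by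
      simpa [hgb] using h2 : Commute (g * g₀ * g⁻¹) b)
    rw [conj_mul] at h1
    exact hg₀2 (conj_eq_one_iff.1 h1)
  set M := X.subgroupOf (P : Subgroup G) with hM
  have hcoset : ∀ s ∈ (P : Subgroup G), s ∉ X → s * y ∈ X := fun s hs hsX =>
    h.mul_mem_comp hg₀ hg₀2 (hP s hs) hsX
  have hM2 : M.index = 2 := by
    rw [Subgroup.index_eq_two_iff]
    refine ⟨⟨y, hyP⟩, fun b => ?_⟩
    simp only [hM, Subgroup.mem_subgroupOf, Subgroup.coe_mul]
    by_cases hb : (b : G) ∈ X
    · exact Or.inr ⟨hb, fun e => h.hy (by simpa using mul_mem (inv_mem hb) e)⟩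
    · exact Or.inl ⟨hcoset b b.2 hb, hb⟩
  have hfus : ∀ a b : (P : Subgroup G), (∃ g : G, g * a * g⁻¹ = (b : G)) → (a ∈ M ↔ b ∈ M) := by
    have key : ∀ a b : (P : Subgroup G), (∃ g : G, g * a * g⁻¹ = (b : G)) → a ∈ M → b ∈ M := by
      intro a b ⟨g, hg⟩ ha
      rw [hM, Subgroup.mem_subgroupOf] at ha ⊢
      by_contra hb
      have hb2 := T.outside_two h.ht (hP b b.2) hb
      rw [← hg, Involutions.Basic.orderOf_conj] at hb2
      exact hb (hnf ha hb2 hg (hP b b.2))
    intro a b hab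
    refine ⟨key a b hab, key b a ?_⟩
    obtain ⟨g, hg⟩ := hab
    exact ⟨g⁻¹, by rw [← hg]; group⟩
  obtain ⟨K, hKn, hK2, hKP⟩ := Involutions.ThreePoint.exists_index_two P M hM2 hfus
  haveI := hKn
  have hKinv : ∀ s ∈ K, orderOf s = 2 → Commute s t → s ∈ X := by
    intro s hs hs2 hst
    haveI : Fact (Nat.Prime 2) := ⟨Nat.prime_two⟩
    have hz : IsPGroup 2 (Subgroup.zpowers s) :=
      IsPGroup.of_card (n := 1) (by rw [Nat.card_zpowers, hs2, pow_one])
    obtain ⟨R, hR⟩ := hz.exists_le_sylow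
    obtain ⟨c, hc⟩ := MulAction.exists_smul_eq G R P
    have hcs : c * s * c⁻¹ ∈ (P : Subgroup G) := by
      rw [← hc, Sylow.coe_subgroup_smul]
      exact Subgroup.smul_mem_pointwise_smul s (MulAut.conj c) _ (hR (Subgroup.mem_zpowers s))
    have hcX : c * s * c⁻¹ ∈ X := by
      have h1 := (hKP ⟨_, hcs⟩).1 (hKn.conj_mem s hs c)
      rwa [hM, Subgroup.mem_subgroupOf] at h1
    exact hnf hcX (by rw [Involutions.Basic.orderOf_conj, hs2]) (g := c⁻¹) (by group) hst
  have hy_coset : ∀ {x : G}, x ∈ X → y * x ∉ K := by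
    intro x hx hK
    have hyx : y * x ∉ X := fun e => h.hy (by simpa using mul_mem e (inv_mem hx))
    exact hyx (hKinv _ hK (by rw [T.orderOf_mul_eq ht1 h.y_nor h.hy hx, h.y_two])
      (h.hc.mul_left (h.commute_t hx)))
  have hyK : y ∉ K := by simpa using hy_coset (one_mem X)
  have hXK : X ≤ K := fun x hx => by
    by_contra hxK
    exact hy_coset hx ((Subgroup.mul_mem_iff_of_index_two hK2).2 (iff_of_false hyK hxK))
  -- the counting in `K`
  set Q := X.subgroupOf K with hQ
  have hnorQ : ∀ k : K, k ∈ Subgroup.normalizer (Q : Set K) ↔ (k : G) ∈ T.nor t := by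
    intro k
    rw [Part.nor, Subgroup.mem_normalizer_iff, Subgroup.mem_normalizer_iff]
    constructor
    · intro hk x
      constructor
      · intro hx
        have := (hk ⟨x, hXK hx⟩).1 (by rwa [hQ, Subgroup.mem_subgroupOf])
        simpa [hQ, Subgroup.mem_subgroupOf] using this
      · intro hx
        have hxK : x ∈ K := by
          have := hKn.conj_mem _ (hXK hx) (k : G)⁻¹
          simpa [mul_assoc] using this
        have := (hk ⟨x, hxK⟩).2 (by simpa [hQ, Subgroup.mem_subgroupOf] using hx)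
        simpa [hQ, Subgroup.mem_subgroupOf] using this
    · intro hk x
      simp only [hQ, Subgroup.mem_subgroupOf, Subgroup.coe_mul, Subgroup.coe_inv]
      exact hk (x : G)
  have ho2 : ∀ {k : K}, orderOf k = 2 → orderOf (k : G) = 2 := fun h2 => by rw [Subgroup.orderOf_coe, h2]
  have hmem : ∀ s ∈ Subgroup.normalizer (Q : Set K), orderOf s = 2 → s ∈ Q := by
    intro s hs hs2
    rw [hQ, Subgroup.mem_subgroupOf]
    by_contra hsX
    have h1 := T.inverts ht1 ((hnorQ s).1 hs) hsX (ho2 hs2) (T.mem t)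
    rw [Involutions.Basic.inv_eq h.ht, mul_inv_eq_iff_eq_mul] at h1
    exact hsX (hKinv s s.2 (ho2 hs2) h1)
  have hcfg : TI.Cfg (Subgroup.normalizer (Q : Set K)) Q := by
    refine ti_cfg Q ?_ hmem ?_ ?_ ?_ ⟨⟨t, hXK (T.mem t)⟩, ⟨w, hXK hw⟩, ?_, ?_, ?_, ?_, ?_, ?_⟩
    · intro e
      have hKnor : K ≤ T.nor t := fun k hk =>
        (hnorQ ⟨k, hk⟩).1 (e ▸ Subgroup.mem_top _)
      refine hnor (eq_top_iff.2 fun g _ => ?_)
      by_cases hgK : g ∈ K
      · exact hKnor hgK
      · have h1 : g * y ∈ K := (Subgroup.mul_mem_iff_of_index_two hK2).2 (iff_of_false hgK hyK)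
        have h2 := mul_mem (hKnor h1) (inv_mem h.y_nor)
        rwa [mul_inv_cancel_right] at h2
    · intro s hs hs2 g hg
      rw [hQ, Subgroup.mem_subgroupOf] at hs ⊢
      obtain ⟨hb, he⟩ := hΩ hs (ho2 hs2)
      rcases (hb.commute_iff (g₀ := g₀) (by rw [he]; exact hg₀) hg₀2).1
        (congrArg Subtype.val hg.eq : Commute (g : G) s) with h1 | h1
      · rwa [he] at h1
      · rw [he] at h1
        exfalso
        exact hyK ((Subgroup.mul_mem_cancel_left _ g.2).1 (hXK h1))
    · intro s hs hs2 g hg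
      rw [hQ, Subgroup.mem_subgroupOf] at hs hg
      have hs1 := Involutions.Basic.ne_one (ho2 hs2)
      rw [hnorQ, ← T.nor_eq_of_mem ht1 hs1 hs, T.mem_nor_iff hs1, T.eq_of_mem ht1 hs1 hs]
      simpa using hg
    · -- no element of the kernel fixes a second point
      intro hse x hx g hg hgx
      have hgM := hg
      rw [hQ, Subgroup.mem_subgroupOf] at hx
      rw [hnorQ] at hg hgx
      by_contra hx1
      have hx1' : (x : G) ≠ 1 := fun e => hx1 (Subtype.ext e)
      set s := (g : G) * t * (g : G)⁻¹ with hs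
      have hs2 : orderOf s = 2 := by rw [hs, Involutions.Basic.orderOf_conj, h.ht]
      have hs1 := Involutions.Basic.ne_one hs2
      have hne : X ≠ T.comp s := fun e => hg ((T.mem_nor_iff ht1).2 (by rw [← hX, e]; exact T.mem s))
      have hxs : (x : G) ∈ T.nor s := by
        rw [T.mem_nor_iff hs1, hs]
        have h1 := (T.conj (g : G) t _).1 ((T.mem_nor_iff ht1).1 hgx)
        simpa [mul_assoc] using h1
      have hxY : (x : G) ∉ T.comp s := fun e => hx1' (T.eq_one_of_mem_of_mem ht1 hs1 hne hx e)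
      have hcy : T.Bad s ((g : G) * y * (g : G)⁻¹) := by
        refine ⟨hs2, h.hc.map (MulAut.conj (g : G)).toMonoidHom, fun e => h.hy ?_⟩
        exact (T.conj (g : G) t y).2 e
      -- a conjugate of `g₀` is inverted, and centralised by `x`
      have hg' : (g : G) * g₀ * (g : G)⁻¹ ∈ T.comp s := (T.conj (g : G) t g₀).1 hg₀
      have hg'2 : ((g : G) * g₀ * (g : G)⁻¹) * ((g : G) * g₀ * (g : G)⁻¹) ≠ 1 := by
        rw [conj_mul]; exact fun e => hg₀2 (conj_eq_one_iff.1 e)
      -- the order of `x` and the outside coset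
      obtain ⟨p, hp, hpd⟩ := Nat.exists_prime_and_dvd (show orderOf (x : G) ≠ 1 by simpa using hx1')
      set z := (x : G) ^ (orderOf (x : G) / p) with hz
      have hzo : orderOf z = p := orderOf_pow_orderOf_div (orderOf_pos (x : G)).ne' hpd
      rcases hp.eq_two_or_odd' with h2 | hodd
      · -- an involution would lie in the coset of the conjugate of `y`
        have hz1 : z ≠ 1 := fun e => hp.one_lt.ne (by rw [← hzo, e, orderOf_one])
        have hzY : z ∉ T.comp s := fun e => hz1 (T.eq_one_of_mem_of_mem ht1 hs1 hne (pow_mem hx _) e)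
        have h1 := T.inverts hs1 (pow_mem hxs _) hzY (hzo.trans h2) (T.mem s)
        rw [Involutions.Basic.inv_eq hs2, mul_inv_eq_iff_eq_mul] at h1
        have h3 := hcy.mul_mem_comp hg' hg'2 (show Commute z s from h1) hzY
        have hYK : T.comp s ≤ K := fun a ha => by
          have h4 := hKn.conj_mem _ (hXK ((T.conj (g : G) t ((g : G)⁻¹ * a * g)).2 (by
            rw [show (g : G) * ((g : G)⁻¹ * a * g) * (g : G)⁻¹ = a by group]; exact ha))) (g : G)
          rwa [show (g : G) * ((g : G)⁻¹ * a * g) * (g : G)⁻¹ = a by group] at h4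
        have h5 : (g : G) * y * (g : G)⁻¹ ∈ K :=
          (Subgroup.mul_mem_cancel_left _ (pow_mem x.2 _)).1 (hYK h3)
        refine hyK ?_
        have h6 := hKn.conj_mem _ h5 (g : G)⁻¹
        simpa [mul_assoc] using h6
      · have hb : ((1 : K) : K ⧸ Subgroup.normalizer (Q : Set K)) ≠ (g : K ⧸ Subgroup.normalizer (Q : Set K)) := by
          rw [Ne, QuotientGroup.eq, inv_one, one_mul]
          exact hgM
        have hcard := Involutions.StronglyEmbedded.card_swap hse _ _ hb
        haveI : Nonempty {i : K // orderOf i = 2 ∧ i ∈ Subgroup.normalizer (Q : Set K)} :=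
          ⟨⟨⟨t, hXK (T.mem t)⟩, by rw [← Subgroup.orderOf_coe]; exact h.ht,
            Subgroup.le_normalizer (by rw [hQ, Subgroup.mem_subgroupOf]; exact T.mem t)⟩⟩
        obtain ⟨⟨u, hu, hu1⟩⟩ := (Nat.card_pos_iff.1 (hcard ▸ Nat.card_pos :
          0 < Nat.card {i : K // orderOf i = 2 ∧ i • ((1 : K) : K ⧸ Subgroup.normalizer (Q : Set K)) =
            (g : K ⧸ Subgroup.normalizer (Q : Set K))})).1
        rw [MulAction.Quotient.smul_coe, smul_eq_mul, mul_one, QuotientGroup.eq, hnorQ] at hu1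
        exact T.false_of_swap (u := (u : G)) ht1 hne (ho2 hu) (by simpa using hu1) (pow_mem hx _)
          (pow_mem hxs _) hzo hp hodd
    · rw [hQ, Subgroup.mem_subgroupOf]; exact T.mem t
    · rw [hQ, Subgroup.mem_subgroupOf]; exact hw
    · rw [← Subgroup.orderOf_coe]; exact h.ht
    · rw [← Subgroup.orderOf_coe]; exact hw2
    · exact fun e => hwt (congrArg Subtype.val e).symm
    · exact Subtype.ext (h.comm (T.mem t) hw)
  refine hg₀2 (congrArg Subtype.val (hcfg.exponent_two (fun a ha b hb => Subtype.ext ?_) ⟨g₀, hXK hg₀⟩ ?_))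
  · rw [hQ, Subgroup.mem_subgroupOf] at ha hb
    exact (h.comm ha hb).eq
  · rwa [hQ, Subgroup.mem_subgroupOf]

end Part

end Cfsg.Agent.Partition
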